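import Mathlib

/-!
Rank bounds for matrices of prime order, and for Kronecker products.
-/

set_option autoImplicit false

namespace Cfsg.Agent.H98.PrimeElem

open Matrix Module
open scoped Kronecker

variable {F : Type*} [Field F]

/-- A prime dividing the order of GL_k(q) has q of order at most k modulo it. -/
theorem orderOf_le_of_dvd_card [Fintype F] {r k q : ℕ} [Fact r.Prime] (hq : Fintype.card F = q)
    (hrq : ¬ r ∣ q) (hd : r ∣ Nat.card (GL (Fin k) F)) : orderOf (q : ZMod r) ≤ k := by
  rw [Matrix.card_GL_field, hq] at hd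
  obtain ⟨j, -, hj⟩ := (Fact.out : r.Prime).prime.exists_mem_finset_dvd hd
  have hlt : (j : ℕ) < k := j.isLt
  have hle : q ^ (j : ℕ) ≤ q ^ k := by
    refine Nat.pow_le_pow_right ?_ hlt.le
    rw [← hq]; exact Fintype.card_pos
  have hq0 : (q : ZMod r) ≠ 0 := fun h => hrq ((ZMod.natCast_eq_zero_iff q r).1 h)
  have hpow : (q : ZMod r) ^ k = (q : ZMod r) ^ (j : ℕ) := by
    have h0 : ((q ^ k - q ^ (j : ℕ) : ℕ) : ZMod r) = 0 := (ZMod.natCast_eq_zero_iff _ _).2 hj
    rw [Nat.cast_sub hle, sub_eq_zero] at h0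
    exact_mod_cast h0
  have h1 : (q : ZMod r) ^ (k - j) = 1 := by
    have : (q : ZMod r) ^ (j : ℕ) * (q : ZMod r) ^ (k - j) = (q : ZMod r) ^ (j : ℕ) * 1 := by
      rw [← pow_add, mul_one, Nat.add_sub_of_le hlt.le, hpow]
    exact mul_left_cancel₀ (pow_ne_zero _ hq0) this
  exact le_trans (orderOf_le_of_pow_eq_one (by omega) h1) (Nat.sub_le _ _)

/-- A matrix `M ≠ 1` with `M ^ r = 1` moves a subspace of dimension at least the order of q modulo r. -/
theorem le_rank_sub_one [Fintype F] {ι : Type*} [Fintype ι] [DecidableEq ι] {r q : ℕ} [hr : Fact r.Prime]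
    (hq : Fintype.card F = q) (hrq : ¬ r ∣ q) (hrF : (r : F) ≠ 0) {M : Matrix ι ι F} (hM : M ^ r = 1)
    (hne : M ≠ 1) : orderOf (q : ZMod r) ≤ (M - 1).rank := by
  classical
  set N : Module.End F (ι → F) := Matrix.toLinAlgEquiv' (M - 1) with hN
  set T : Module.End F (ι → F) := Matrix.toLinAlgEquiv' M with hT
  have hNT : N = T - 1 := by rw [hN, hT, map_sub, map_one]
  have hTr : T ^ r = 1 := by rw [hT, ← map_pow, hM, map_one]
  have hmaps : ∀ u ∈ LinearMap.range N, T u ∈ LinearMap.range N := by
    rintro _ ⟨w, rfl⟩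
    exact ⟨T w, by rw [hNT]; simp [map_sub]⟩
  set f : Module.End F (LinearMap.range N) := T.restrict hmaps with hf
  have hfpow : ∀ (k : ℕ) (u : LinearMap.range N), ((f ^ k) u : ι → F) = (T ^ k) u := by
    intro k
    induction k with
    | zero => simp
    | succ k ih =>
      intro u
      rw [pow_succ', pow_succ', Module.End.mul_apply, Module.End.mul_apply, ← ih]
      rfl
  have hfr : f ^ r = 1 := LinearMap.ext fun u => Subtype.ext (by rw [hfpow, hTr]; rfl)
  have hf1 : f ≠ 1 := by
    intro h
    have hNN : (M - 1) * (M - 1) = 0 := by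
      apply Matrix.toLinAlgEquiv'.injective
      rw [map_mul, map_zero]
      refine LinearMap.ext fun w => ?_
      have := congrArg Subtype.val (LinearMap.congr_fun h ⟨N w, ⟨w, rfl⟩⟩)
      rw [hf, LinearMap.coe_restrict_apply, Module.End.one_apply] at this
      rw [← hN, Module.End.mul_apply, LinearMap.zero_apply]
      nth_rewrite 1 [hNT]
      rw [LinearMap.sub_apply, Module.End.one_apply, sub_eq_zero]
      exact this
    have hpow : ∀ j : ℕ, M ^ j = 1 + (j : F) • (M - 1) := by
      intro j
      induction j with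
      | zero => simp
      | succ j ih =>
        have hMeq : M = 1 + (M - 1) := by abel
        calc M ^ (j + 1) = (1 + (j : F) • (M - 1)) * (1 + (M - 1)) := by rw [pow_succ, ih, ← hMeq]
          _ = 1 + ((j + 1 : ℕ) : F) • (M - 1) := by
            rw [add_mul, mul_add, one_mul, one_mul, Matrix.smul_mul, mul_add, mul_one, hNN, add_zero,
              Nat.cast_succ, add_smul, one_smul]
            abel
    have h0 := hpow r
    rw [hM, left_eq_add, smul_eq_zero, or_iff_right hrF, sub_eq_zero] at h0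
    exact hne h0
  let u : (Module.End F (LinearMap.range N))ˣ := (IsUnit.of_pow_eq_one hfr hr.out.ne_zero).unit
  have hu : orderOf u = r := by
    refine orderOf_eq_prime (Units.ext ?_) ?_
    · simp [u, hfr]
    · intro h
      exact hf1 (by simpa [u] using congrArg Units.val h)
  have hd := orderOf_dvd_natCard u
  rw [hu, Nat.card_congr (Units.mapEquiv
    (LinearMap.toMatrixAlgEquiv (Module.finBasis F (LinearMap.range N))).toMulEquiv).toEquiv] at hd
  exact orderOf_le_of_dvd_card hq hrq hd

/-- Rank of `1 ⊗ N`. -/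
theorem rank_one_kronecker {a b : ℕ} (N : Matrix (Fin b) (Fin b) F) :
    ((1 : Matrix (Fin a) (Fin a) F) ⊗ₖ N).rank = a * N.rank := by
  let φ : (Fin a → LinearMap.range N.mulVecLin) →ₗ[F] (Fin a × Fin b → F) :=
    { toFun := fun f ij => (f ij.1).1 ij.2
      map_add' := fun f g => rfl
      map_smul' := fun c f => rfl }
  have hinj : Function.Injective φ := fun f g h =>
    funext fun i => Subtype.ext (funext fun j => congrFun h (i, j))
  have key : ∀ v : Fin a × Fin b → F, ∀ i j, (((1 : Matrix (Fin a) (Fin a) F) ⊗ₖ N) *ᵥ v) (i, j) =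
      (N *ᵥ fun l => v (i, l)) j := by
    intro v i j
    simp [Matrix.mulVec, dotProduct, Fintype.sum_prod_type, Matrix.kroneckerMap_apply, Matrix.one_apply,
      ite_mul]
  have hr : LinearMap.range φ = LinearMap.range ((1 : Matrix (Fin a) (Fin a) F) ⊗ₖ N).mulVecLin := by
    apply le_antisymm
    · rintro _ ⟨f, rfl⟩
      choose w hw using fun i => (f i).2
      refine ⟨fun ij => w ij.1 ij.2, funext fun ⟨i, j⟩ => ?_⟩
      rw [Matrix.mulVecLin_apply, key]
      exact congrFun (hw i) j
    · rintro _ ⟨v, rfl⟩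
      refine ⟨fun i => ⟨N *ᵥ fun l => v (i, l), ⟨_, rfl⟩⟩, funext fun ⟨i, j⟩ => ?_⟩
      rw [Matrix.mulVecLin_apply, key]
      rfl
  rw [Matrix.rank, ← hr, LinearMap.finrank_range_of_inj hinj, Module.finrank_pi_fintype,
    Finset.sum_const, Finset.card_univ, Fintype.card_fin, smul_eq_mul]
  rfl

/-- A Kronecker product with non-scalar first factor differs from every scalar in rank at least `b`. -/
theorem le_rank_kronecker_sub {a b : ℕ} {A : Matrix (Fin a) (Fin a) F} {B : Matrix (Fin b) (Fin b) F}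
    (hA : ∀ c : F, A ≠ c • 1) (hB : IsUnit B) (l : F) : b ≤ (A ⊗ₖ B - l • 1).rank := by
  obtain ⟨v, hv⟩ : ∃ v, LinearIndependent F ![v, A *ᵥ v] := by
    by_contra h
    simp only [not_exists] at h
    obtain ⟨c, hc⟩ := (Matrix.toLin' A).exists_eq_smul_id_of_forall_notLinearIndependent
      (fun v => by simpa using h v)
    exact hA c (Matrix.toLin'.injective (by rw [hc, map_smul, Matrix.toLin'_one]; rfl))
  let ι : (Fin b → F) →ₗ[F] (Fin a × Fin b → F) :=
    { toFun := fun w ij => v ij.1 * w ij.2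
      map_add' := fun x y => funext fun ij => mul_add _ _ _
      map_smul' := fun c x => funext fun ij => mul_left_comm _ _ _ }
  have himg : ∀ w i j, ((A ⊗ₖ B - l • 1) *ᵥ ι w) (i, j) =
      (A *ᵥ v) i * (B *ᵥ w) j - l * (v i * w j) := by
    intro w i j
    rw [Matrix.sub_mulVec, Matrix.smul_mulVec, Matrix.one_mulVec, Pi.sub_apply, Pi.smul_apply, smul_eq_mul]
    congr 1
    simp only [Matrix.mulVec, dotProduct, Matrix.kroneckerMap_apply, ι, LinearMap.coe_mk, AddHom.coe_mk]
    rw [Finset.sum_mul_sum, Fintype.sum_prod_type]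
    exact Finset.sum_congr rfl fun x _ => Finset.sum_congr rfl fun y _ => by ring
  have hker : Function.Injective ((A ⊗ₖ B - l • 1).mulVecLin ∘ₗ ι) := by
    rw [← LinearMap.ker_eq_bot, LinearMap.ker_eq_bot']
    intro w hw
    refine Matrix.mulVec_injective_iff_isUnit.2 hB ?_
    rw [Matrix.mulVec_zero]
    funext j
    have hcomb : (-(l * w j)) • v + (B *ᵥ w) j • (A *ᵥ v) = 0 := funext fun i => by
      have := congrFun hw (i, j)
      simp only [LinearMap.comp_apply, Matrix.mulVecLin_apply, himg, Pi.zero_apply] at this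
      simp only [Pi.add_apply, Pi.smul_apply, smul_eq_mul, Pi.zero_apply]
      rw [← this]; ring
    exact (LinearIndependent.pair_iff.1 hv _ _ hcomb).2
  calc b = Module.finrank F (LinearMap.range ((A ⊗ₖ B - l • 1).mulVecLin ∘ₗ ι)) := by
        rw [LinearMap.finrank_range_of_inj hker, Module.finrank_fin_fun]
    _ ≤ _ := Submodule.finrank_mono (LinearMap.range_comp_le_range _ _)

end Cfsg.Agent.H98.PrimeElem
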