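import Cfsg.Agent.H98.PrimeElem.Witness

/-!
Elements of SL_n of prime order with small support.
-/

set_option autoImplicit false

namespace Cfsg.Agent.H98.PrimeElem

open Matrix Module

variable {F : Type*} [Field F]

theorem not_dvd_card_units_of_two_le [Fintype F] {r q : ℕ} [Fact r.Prime] (hq : Fintype.card F = q)
    (hi : 2 ≤ orderOf (q : ZMod r)) : ¬ r ∣ q - 1 := by
  intro hd
  have h0 := (ZMod.natCast_eq_zero_iff _ _).2 hd
  rw [Nat.cast_sub (by rw [← hq]; exact Fintype.card_pos), Nat.cast_one, sub_eq_zero] at h0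
  rw [h0, orderOf_one] at hi
  omega

theorem eq_one_of_pow_eq_one [Fintype F] {r q : ℕ} [hr : Fact r.Prime] (hq : Fintype.card F = q)
    (hn : ¬ r ∣ q - 1) {s : F} (hs : s ^ r = 1) : s = 1 := by
  have hs0 : s ≠ 0 := fun h0 => by simp [h0, hr.out.ne_zero] at hs
  rcases (Nat.dvd_prime hr.out).1 (orderOf_dvd_of_pow_eq_one (x := Units.mk0 s hs0) (Units.ext (by simpa using hs)))
    with h | h
  · simpa using congrArg Units.val (orderOf_eq_one_iff.1 h)
  · have hdc := orderOf_dvd_natCard (Units.mk0 s hs0)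
    rw [h, Nat.card_units, Nat.card_eq_fintype_card, hq] at hdc
    exact absurd hdc hn

/-- For i = ord(q mod r) ≥ 2 with i ≤ n, SL_n has a non-scalar x with x^r = 1 moving at most i dimensions. -/
theorem exists_small [Fintype F] {n r q : ℕ} [hr : Fact r.Prime] (hq : Fintype.card F = q)
    (hi : 2 ≤ orderOf (q : ZMod r)) (hin : orderOf (q : ZMod r) ≤ n) :
    ∃ x : GL (Fin n) F, x ∈ Cfsg.Geo.specialLinear (Fin n) F ∧ (x : Matrix (Fin n) (Fin n) F) ^ r = 1 ∧
      (∀ z : F, (x : Matrix (Fin n) (Fin n) F) ≠ z • 1) ∧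
      ((x : Matrix (Fin n) (Fin n) F) - 1).rank ≤ orderOf (q : ZMod r) := by
  classical
  set i := orderOf (q : ZMod r) with hidef
  have hd : r ∣ Nat.card (GL (Fin i) F) := by
    rw [Matrix.card_GL_field, hq]
    refine dvd_trans ?_ (Finset.dvd_prod_of_mem _ (Finset.mem_univ (⟨0, by omega⟩ : Fin i)))
    rw [pow_zero, ← ZMod.natCast_eq_zero_iff, Nat.cast_sub (Nat.one_le_pow _ _ (by rw [← hq]; exact Fintype.card_pos)),
      Nat.cast_pow, hidef, pow_orderOf_eq_one, Nat.cast_one, sub_self]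
  obtain ⟨y, hy⟩ := exists_prime_orderOf_dvd_card' r hd
  let E : Fin i ⊕ Fin (n - i) ≃ Fin n := finSumFinEquiv.trans (finCongr (by omega))
  set Y : Matrix (Fin i ⊕ Fin (n - i)) (Fin i ⊕ Fin (n - i)) F := Matrix.fromBlocks y.val 0 0 1 with hY
  have hYp : ∀ k : ℕ, Y ^ k = Matrix.fromBlocks (y.val ^ k) 0 0 1 := by
    intro k
    induction k with
    | zero => simp [Matrix.fromBlocks_one]
    | succ k ih => rw [pow_succ, ih, hY, Matrix.fromBlocks_multiply, pow_succ]; simp
  set X := Matrix.reindexAlgEquiv F F E Y with hX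
  have hXr : X ^ r = 1 := by
    rw [hX, ← map_pow, hYp, show y.val ^ r = 1 by rw [← Units.val_pow_eq_pow_val, ← hy, pow_orderOf_eq_one]; rfl,
      Matrix.fromBlocks_one, map_one]
  let x : GL (Fin n) F := (IsUnit.of_pow_eq_one hXr hr.out.ne_zero).unit
  have hns := not_dvd_card_units_of_two_le hq hi
  refine ⟨x, ?_, hXr, ?_, ?_⟩
  · refine MonoidHom.mem_ker.2 (Units.ext (eq_one_of_pow_eq_one hq hns ?_))
    show (Matrix.det X) ^ r = 1
    rw [← Matrix.det_pow, hXr, Matrix.det_one]
  · intro z hz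
    have hz' : X = z • 1 := hz
    have hn0 : 0 < n := by omega
    have hz1 : z = 1 := eq_one_of_pow_eq_one hq hns (by
      simpa [hz', smul_pow, Matrix.one_apply] using congrFun (congrFun hXr ⟨0, hn0⟩) ⟨0, hn0⟩)
    rw [hz1, one_smul, hX, ← map_one (Matrix.reindexAlgEquiv F F E)] at hz'
    have := congrArg Matrix.toBlocks₁₁ ((Matrix.reindexAlgEquiv F F E).injective hz')
    rw [hY, Matrix.toBlocks_fromBlocks₁₁, ← Matrix.fromBlocks_one, Matrix.toBlocks_fromBlocks₁₁] at this
    have hy1 : y = 1 := Units.ext this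
    rw [hy1, orderOf_one] at hy
    exact hr.out.ne_one hy.symm
  · show (X - 1).rank ≤ i
    rw [hX, ← map_one (Matrix.reindexAlgEquiv F F E), ← map_sub, Matrix.coe_reindexAlgEquiv, Matrix.rank_reindex]
    have : Y - 1 = Matrix.fromRows (y.val - 1) 0 * Matrix.fromCols (1 : Matrix (Fin i) (Fin i) F) 0 := by
      rw [hY, Matrix.fromRows_mul_fromCols]
      ext (u | u) (v | v) <;> simp [Matrix.one_apply]
    rw [this]
    exact (Matrix.rank_mul_le_left _ _).trans ((Matrix.rank_le_card_width _).trans (le_of_eq (Fintype.card_fin i)))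

theorem rank_diagonal_sub {ι : Type*} [Fintype ι] [DecidableEq ι] [DecidableEq F] (d : ι → F) (l : F) :
    (Matrix.diagonal d - l • 1).rank = Fintype.card {i // d i ≠ l} := by
  rw [Matrix.smul_one_eq_diagonal, Matrix.diagonal_sub, Matrix.rank_diagonal]
  exact Fintype.card_congr (Equiv.subtypeEquivRight fun i => sub_ne_zero)

/-- A diagonal element of SL_n. -/
theorem exists_diagonal {n : ℕ} (d : Fin n → F) (hd : ∏ i, d i = 1) :
    ∃ x : GL (Fin n) F, x ∈ Cfsg.Geo.specialLinear (Fin n) F ∧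
      (x : Matrix (Fin n) (Fin n) F) = Matrix.diagonal d :=
  ⟨Matrix.GeneralLinearGroup.mk'' (Matrix.diagonal d) (by rw [Matrix.det_diagonal, hd]; exact isUnit_one),
    MonoidHom.mem_ker.2 (Units.ext (by
      show Matrix.det (Matrix.diagonal d) = 1
      rw [Matrix.det_diagonal, hd])), rfl⟩

theorem rank_transvection_sub_one {n : ℕ} {i j : Fin n} :
    (Matrix.transvection i j (1 : F) - 1).rank = 1 := by
  rw [Matrix.transvection, add_sub_cancel_left]
  apply le_antisymm
  · rw [show Matrix.single i j (1 : F) = Matrix.vecMulVec (Pi.single i 1) (Pi.single j 1) by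
      ext u v; simp [Matrix.vecMulVec, Matrix.single_apply, Pi.single_apply, eq_comm, ← ite_and, and_comm]]
    simpa using Matrix.rank_vecMulVec_le (Pi.single i (1 : F)) (Pi.single j (1 : F))
  · rw [Nat.one_le_iff_ne_zero, Matrix.rank]
    intro h0
    have hbot := Submodule.finrank_eq_zero.1 h0
    have hmem : (Matrix.single i j (1 : F)).mulVecLin (Pi.single j 1) ∈ (⊥ : Submodule F (Fin n → F)) := by
      rw [← hbot]; exact ⟨_, rfl⟩
    simpa [Matrix.mulVecLin_apply] using congrFun ((Submodule.mem_bot F).1 hmem) i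

end Cfsg.Agent.H98.PrimeElem
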