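import Cfsg.Agent.H98.PrimeElem.Polar

/-!
Unitary matrices with scalar square: they fix or interchange a polar pair.
-/

set_option autoImplicit false
set_option linter.unusedSectionVars false

namespace Cfsg.Agent.H98.PrimeElem

open Matrix Module Cfsg.Agent.Unitary

variable {F : Type*} [Field F] [Fintype F] {n m q : ℕ}

/-- An element of norm one with prescribed 2-power order. -/
theorem exists_norm_one_pow_eq_neg_one (hF : Fintype.card F = q ^ 2) (hn : 0 < n)
    (h : padicValNat 2 n < padicValNat 2 (q + 1)) : ∃ μ : F, μ * μ ^ q = 1 ∧ μ ^ n = -1 := by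
  set w := padicValNat 2 n with hw
  have hdq : 2 ^ (w + 1) ∣ q + 1 := (pow_dvd_pow 2 h).trans pow_padicValNat_dvd
  have hdvd : 2 ^ (w + 1) ∣ Nat.card Fˣ := by
    rw [Cfsg.Agent.Unitary.card_units hF]; exact dvd_mul_of_dvd_left hdq _
  obtain ⟨o, ho⟩ : 2 ^ w ∣ n := hw ▸ pow_padicValNat_dvd
  have hodd : Odd o := by
    rcases Nat.even_or_odd o with ⟨s, rfl⟩ | ho'
    · exfalso
      have : 2 ^ (w + 1) ∣ n := ⟨s, by rw [ho]; ring⟩
      have := (padicValNat_dvd_iff_le (p := 2) (by omega)).1 this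
      omega
    · exact ho'
  obtain ⟨g, hg⟩ := IsCyclic.exists_ofOrder_eq_natCard (α := Fˣ)
  obtain ⟨t, ht⟩ := hdvd
  have ht0 : 0 < t := Nat.pos_of_ne_zero fun h0 => by
    have := Nat.card_pos (α := Fˣ)
    simp [ht, h0] at this
  refine ⟨((g ^ t : Fˣ) : F), ?_⟩
  have hord : orderOf (g ^ t) = 2 ^ (w + 1) := by
    rw [orderOf_pow, hg, ht, Nat.gcd_mul_left_left, Nat.mul_div_cancel _ ht0]
  refine ⟨?_, ?_⟩
  · rw [← pow_succ', ← Units.val_pow_eq_pow_val, orderOf_dvd_iff_pow_eq_one.1 (hord ▸ hdq), Units.val_one]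
  have h1 : (((g ^ t : Fˣ) : F) ^ 2 ^ w) ^ 2 = 1 := by
    rw [← pow_mul, ← pow_succ, ← hord, ← Units.val_pow_eq_pow_val, pow_orderOf_eq_one, Units.val_one]
  have h2 : ((g ^ t : Fˣ) : F) ^ 2 ^ w ≠ 1 := by
    intro h2
    have := orderOf_dvd_of_pow_eq_one (x := g ^ t) (n := 2 ^ w) (Units.ext (by simpa using h2))
    rw [hord] at this
    exact absurd (Nat.le_of_dvd (by positivity) this) (not_le.2 (Nat.pow_lt_pow_right (by norm_num) (by omega)))
  rw [ho, pow_mul, (sq_eq_one_iff.1 h1).resolve_left h2, hodd.neg_one_pow]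

/-- A unitary matrix of determinant one with scalar square fixes or interchanges a polar pair. -/
theorem exists_polarPair_of_sq (hF : Fintype.card F = q ^ 2) (hodd : Odd q) (hn2 : n = 2 * m) (hm : 0 < m)
    (hval : padicValNat 2 (q + 1) ≤ padicValNat 2 n) {M : Matrix (Fin n) (Fin n) F} (hM : Preserves q M)
    (hdet : M.det = 1) {c : F} (hsq : M * M = c • 1) :
    ∃ U W : Submodule F (Fin n → F), IsPolarPair q m U W ∧ U.map (Matrix.toLin' M) = U ∧
      W.map (Matrix.toLin' M) = W := by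
  classical
  set T : Module.End F (Fin n → F) := Matrix.toLin' M with hT
  have hTT : ∀ v, T (T v) = c • v := fun v => by
    rw [hT, Matrix.toLin'_apply, Matrix.toLin'_apply, Matrix.mulVec_mulVec, hsq, Matrix.smul_mulVec,
      Matrix.one_mulVec]
  have hTh : ∀ u v, hermForm n F q (T u) (T v) = hermForm n F q u v := fun u v => by
    simp only [hT, Matrix.toLin'_apply]; exact hM u v
  have hTinj : Function.Injective T := fun u v huv =>
    hM.mulVec_injective hF (by simpa [hT, Matrix.toLin'_apply] using huv)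
  have hc0 : c ≠ 0 := fun h => by
    have := congrArg Matrix.det hsq
    rw [h, zero_smul, Matrix.det_mul, hdet, mul_one, @Matrix.det_zero _ _ _ _ _ ⟨⟨0, by omega⟩⟩] at this
    exact one_ne_zero this
  have hFodd : Fintype.card F % 2 = 1 := by rw [hF, Nat.pow_mod, Nat.odd_iff.1 hodd]
  have hc2 : ringChar F ≠ 2 := fun h => by
    have h2 : Fintype.card F % 2 = 0 := FiniteField.even_card_of_char_two h
    omega
  have hF2 : (2 : F) ≠ 0 := Ring.two_ne_zero hc2
  have hcn : c * c ^ q = 1 := by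
    obtain ⟨j⟩ : Nonempty (Fin n) := ⟨⟨0, by omega⟩⟩
    have h1 := (hM (M *ᵥ Pi.single j 1) (M *ᵥ Pi.single j 1))
    rw [hM (Pi.single j 1) (Pi.single j 1), Matrix.mulVec_mulVec, hsq, Matrix.smul_mulVec, Matrix.one_mulVec, herm_smul_left, herm_smul_right,
      herm_single_single hF] at h1
    simpa using h1
  obtain ⟨μ, hμ⟩ : IsSquare c := by
    rw [FiniteField.isSquare_iff hc2 hc0]
    obtain ⟨k, hk⟩ := hodd
    have : Fintype.card F / 2 = (q + 1) * k := by
      rw [hF, hk]
      have : (2 * k + 1) ^ 2 = 2 * ((2 * k + 1 + 1) * k) + 1 := by ring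
      omega
    rw [this, pow_mul, pow_succ', hcn, one_pow]
  have hμ0 : μ ≠ 0 := fun h => hc0 (by rw [hμ, h, zero_mul])
  set Vp := LinearMap.ker (T - μ • 1) with hVp
  set Vm := LinearMap.ker (T + μ • 1) with hVm
  have hp' : ∀ v ∈ Vp, T v = μ • v := fun v hv => by simpa [hVp, sub_eq_zero] using hv
  have hm' : ∀ v ∈ Vm, T v = (-μ) • v := fun v hv => by
    rw [neg_smul]; simpa [hVm, add_eq_zero_iff_eq_neg] using hv
  have hcompl : IsCompl Vp Vm := by
    refine ⟨Submodule.disjoint_def.2 fun v h1 h2 => ?_, codisjoint_iff.2 (eq_top_iff.2 fun v _ => ?_)⟩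
    · have : ((2 : F) * μ) • v = 0 := by
        have := (hp' v h1).symm.trans (hm' v h2)
        linear_combination (norm := module) this
      exact (smul_eq_zero.1 this).resolve_left (mul_ne_zero hF2 hμ0)
    · have hv : v = (2 * μ)⁻¹ • (T v + μ • v) + (2 * μ)⁻¹ • -(T v - μ • v) := by
        match_scalars <;> field_simp <;> ring
      rw [hv]
      refine Submodule.add_mem_sup (Submodule.smul_mem _ _ ?_) (Submodule.smul_mem _ _ (Submodule.neg_mem _ ?_)) <;>
        simp only [hVp, hVm, LinearMap.mem_ker, LinearMap.sub_apply, LinearMap.add_apply, LinearMap.smul_apply,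
          Module.End.one_apply, map_add, map_sub, map_smul, hTT, hμ] <;> module
  set k := finrank F Vp with hk
  set l := finrank F Vm with hl
  have hkl : k + l = n := by
    rw [hk, hl, Submodule.finrank_add_eq_of_isCompl hcompl, Module.finrank_fin_fun]
  have hmapp : ∀ {s : F}, s ≠ 0 → ∀ {V : Submodule F (Fin n → F)}, (∀ v ∈ V, T v = s • v) → V.map T = V := by
    intro s hs0 V hV
    refine Submodule.eq_of_le_of_finrank_eq ?_ (Submodule.equivMapOfInjective _ hTinj _).finrank_eq.symm
    rintro _ ⟨v, hv, rfl⟩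
    rw [hV v hv]; exact V.smul_mem _ hv
  have hμ2 : (μ * μ ^ q) ^ 2 = 1 := by
    rw [← hcn, hμ]; ring
  rcases sq_eq_one_iff.1 hμ2 with hn1 | hn1
  · -- both eigenspaces are non-degenerate of even dimension
    have horth : ∀ u ∈ Vp, ∀ w ∈ Vm, hermForm n F q u w = 0 := by
      intro u hu w hw
      have h1 := hTh u w
      rw [hp' u hu, hm' w hw, herm_smul_left, herm_smul_right, hodd.neg_pow] at h1
      have : (2 : F) * hermForm n F q u w = 0 := by linear_combination -h1 - hermForm n F q u w * hn1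
      exact (mul_eq_zero.1 this).resolve_left hF2
    have hnd : ∀ {A B : Submodule F (Fin n → F)}, IsCompl A B → (∀ u ∈ A, ∀ w ∈ B, hermForm n F q u w = 0) →
        Nondeg q A := fun hAB ho u hu hz => eq_zero_of_forall_right hF fun v => by
      obtain ⟨a, ha, b, hb, rfl⟩ := Submodule.mem_sup.1 (hAB.sup_eq_top.symm ▸ Submodule.mem_top (x := v))
      rw [herm_add_right hF, hz a ha, ho u hu b hb, add_zero]
    have hnp := hnd hcompl horth
    have hnm := hnd hcompl.symm fun u hu w hw => (herm_eq_zero_symm hF).1 (horth w hw u hu)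
    have hkeven : Even k := by
      rw [← Nat.not_odd_iff_even]
      intro hko
      let β := ((Module.finBasisOfFinrankEq F Vp hk.symm).prod (Module.finBasisOfFinrankEq F Vm hl.symm)).map
        (Submodule.prodEquivOfIsCompl _ _ hcompl)
      let D : Fin k ⊕ Fin l → F := Sum.elim (fun _ => μ) (fun _ => -μ)
      have hβ : ∀ u, T (β u) = D u • β u := by
        rintro (u | u)
        · simp only [β, D, Module.Basis.map_apply, Sum.elim_inl, Submodule.coe_prodEquivOfIsCompl',
            Module.Basis.prod_apply, Sum.elim_inl, Function.comp_apply, LinearMap.inl_apply, ZeroMemClass.coe_zero,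
            add_zero]
          exact hp' _ (SetLike.coe_mem _)
        · simp only [β, D, Module.Basis.map_apply, Sum.elim_inr, Submodule.coe_prodEquivOfIsCompl',
            Module.Basis.prod_apply, Sum.elim_inr, Function.comp_apply, LinearMap.inr_apply, ZeroMemClass.coe_zero,
            zero_add]
          exact hm' _ (SetLike.coe_mem _)
      have hdetT : Matrix.det (LinearMap.toMatrix β β T) = 1 := by
        rw [LinearMap.det_toMatrix, hT, LinearMap.det_toLin', hdet]
      rw [show LinearMap.toMatrix β β T = Matrix.diagonal D by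
        ext u v
        rw [LinearMap.toMatrix_apply, hβ, map_smul, Module.Basis.repr_self, Finsupp.smul_single, smul_eq_mul,
          mul_one, Finsupp.single_apply, Matrix.diagonal_apply]
        rcases eq_or_ne u v with h | h
        · simp [h]
        · simp [h, h.symm], Matrix.det_diagonal, Fintype.prod_sum_type] at hdetT
      simp only [D, Sum.elim_inl, Sum.elim_inr, Finset.prod_const, Finset.card_univ, Fintype.card_fin] at hdetT
      have hlo : Odd l := by
        obtain ⟨s, hs⟩ := hko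
        exact ⟨m - s - 1, by omega⟩
      rw [neg_pow, hlo.neg_one_pow, neg_one_mul, mul_neg, ← pow_add, hkl] at hdetT
      set w := padicValNat 2 n with hw
      obtain ⟨o, ho⟩ : 2 ^ w ∣ n := hw ▸ pow_padicValNat_dvd
      set y : Fˣ := Units.mk0 μ hμ0 ^ o with hy
      have hy1 : y ^ 2 ^ w = -1 := by
        rw [hy, ← pow_mul, mul_comm, ← ho]
        exact Units.ext (by push_cast; exact (neg_eq_iff_eq_neg.1 hdetT))
      have hoy : orderOf y = 2 ^ (w + 1) := by
        refine orderOf_eq_prime_pow ?_ ?_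
        · rw [hy1]
          intro h
          have := congrArg Units.val h
          push_cast at this
          exact hF2 (by linear_combination -this)
        · rw [pow_succ, pow_mul, hy1]; exact neg_one_sq
      have hyq : y ^ (q + 1) = 1 := by
        rw [hy, ← pow_mul, mul_comm, pow_mul]
        refine (congrArg (· ^ o) (Units.ext ?_ : Units.mk0 μ hμ0 ^ (q + 1) = 1)).trans (one_pow o)
        rw [Units.val_pow_eq_pow_val, Units.val_mk0, pow_succ', hn1, Units.val_one]
      have := hoy ▸ orderOf_dvd_of_pow_eq_one hyq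
      have := (padicValNat_dvd_iff_le (p := 2) (by omega)).1 this
      omega
    have hleven : Even l := by
      obtain ⟨s, hs⟩ := hkeven
      exact ⟨m - s, by omega⟩
    obtain ⟨a, hak⟩ := hkeven
    obtain ⟨b, hbl⟩ := hleven
    obtain ⟨f, hf, hfs⟩ := exists_ON_basis hF Vp hnp
    obtain ⟨f', hf', hfs'⟩ := exists_ON_basis hF Vm hnm
    obtain ⟨ε, hε⟩ := exists_norm_eq_neg_one (F := F) hF
    have hε0 : ε ≠ 0 := fun h => by simp [h] at hε
    have hspl : ∀ {A : Submodule F (Fin n → F)} {d d2 : ℕ} (hd : d = d2 + d2), ∀ (g : Fin d → Fin n → F), ON q g →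
        Submodule.span F (Set.range g) = A → ∀ s : F, s * s ^ q = -1 →
        ∃ B ≤ A, finrank F B ≤ d2 ∧ (∀ u ∈ B, ∀ v ∈ B, hermForm n F q u v = 0) ∧
          B = Submodule.span F (Set.range fun i : Fin d2 =>
            g ⟨(i : ℕ), by omega⟩ + s • g ⟨d2 + (i : ℕ), by omega⟩) := by
      intro A d d2 hd g hg hgs s hs
      refine ⟨_, ?_, (finrank_range_le_card _).trans (le_of_eq (Fintype.card_fin d2)), ?_, rfl⟩
      · rw [Submodule.span_le]
        rintro _ ⟨i, rfl⟩
        exact A.add_mem (hgs ▸ Submodule.subset_span ⟨_, rfl⟩) (A.smul_mem _ (hgs ▸ Submodule.subset_span ⟨_, rfl⟩))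
      · intro u hu v hv
        obtain ⟨cu, rfl⟩ := (Submodule.mem_span_range_iff_exists_fun F).1 hu
        obtain ⟨cv, rfl⟩ := (Submodule.mem_span_range_iff_exists_fun F).1 hv
        rw [herm_sum_left]
        refine Finset.sum_eq_zero fun i _ => ?_
        rw [herm_smul_left, herm_sum_right hF]
        refine mul_eq_zero_of_right _ (Finset.sum_eq_zero fun j _ => ?_)
        rw [herm_smul_right, herm_add_left, herm_add_right hF, herm_add_right hF, herm_smul_left, herm_smul_right,
          herm_smul_right, herm_smul_left, hg, hg, hg, hg]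
        simp only [Fin.mk.injEq]
        refine mul_eq_zero_of_right _ ?_
        rw [if_neg (by omega : ¬ (i : ℕ) = d2 + (j : ℕ)), if_neg (by omega : ¬ d2 + (i : ℕ) = (j : ℕ))]
        by_cases hij : (i : ℕ) = (j : ℕ)
        · rw [if_pos hij, if_pos (by omega)]; linear_combination hs
        · rw [if_neg hij, if_neg (by omega)]; ring
    have hsn : (-ε) * (-ε) ^ q = -1 := by rw [hodd.neg_pow]; linear_combination hε
    obtain ⟨B1, hB1A, hB1d, hB1h, hB1e⟩ := hspl hak f hf hfs ε hε
    obtain ⟨C1, hC1A, hC1d, hC1h, hC1e⟩ := hspl hak f hf hfs (-ε) hsn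
    obtain ⟨B2, hB2A, hB2d, hB2h, hB2e⟩ := hspl hbl f' hf' hfs' ε hε
    obtain ⟨C2, hC2A, hC2d, hC2h, hC2e⟩ := hspl hbl f' hf' hfs' (-ε) hsn
    have hsum : ∀ {A : Submodule F (Fin n → F)} {d d2 : ℕ}, d = d2 + d2 → ∀ (g : Fin d → Fin n → F),
        Submodule.span F (Set.range g) = A → ∀ B C : Submodule F (Fin n → F), ∀ hd : ∀ i : Fin d2, d2 + (i : ℕ) < d,
        (∀ i : Fin d2, g ⟨(i : ℕ), lt_of_le_of_lt (Nat.le_add_left _ _) (hd i)⟩ + ε • g ⟨d2 + (i : ℕ), hd i⟩ ∈ B) →
        (∀ i : Fin d2, g ⟨(i : ℕ), lt_of_le_of_lt (Nat.le_add_left _ _) (hd i)⟩ + (-ε) • g ⟨d2 + (i : ℕ), hd i⟩ ∈ C) →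
        A ≤ B ⊔ C := by
      intro A d d2 hd2 g hgs B C hd hB hC
      rw [← hgs, Submodule.span_le]
      rintro _ ⟨i, rfl⟩
      have key : ∀ i : Fin d2, g ⟨(i : ℕ), lt_of_le_of_lt (Nat.le_add_left _ _) (hd i)⟩ ∈ B ⊔ C ∧
          g ⟨d2 + (i : ℕ), hd i⟩ ∈ B ⊔ C := by
        intro i
        have h1 := Submodule.mem_sup_left (T := C) (hB i)
        have h2 := Submodule.mem_sup_right (S := B) (hC i)
        constructor
        · have h3 := (B ⊔ C).smul_mem (2 : F)⁻¹ (Submodule.add_mem _ h1 h2)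
          convert h3 using 1
          match_scalars <;> field_simp <;> ring
        · have h3 := (B ⊔ C).smul_mem ((2 : F) * ε)⁻¹ (Submodule.sub_mem _ h1 h2)
          convert h3 using 1
          match_scalars <;> field_simp <;> ring
      rcases lt_or_ge (i : ℕ) d2 with hi | hi
      · exact (key ⟨i, hi⟩).1
      · have := (key ⟨(i : ℕ) - d2, by omega⟩).2
        simp only [Nat.add_sub_cancel' hi, Fin.eta] at this
        exact this
    have htop : (B1 ⊔ B2) ⊔ (C1 ⊔ C2) = ⊤ := by
      rw [sup_sup_sup_comm, eq_top_iff, ← hcompl.sup_eq_top]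
      refine sup_le_sup (hsum hak f hfs B1 C1 (fun i => by omega) ?_ ?_)
        (hsum hbl f' hfs' B2 C2 (fun i => by omega) ?_ ?_) <;> intro i
      · rw [hB1e]; exact Submodule.subset_span ⟨i, rfl⟩
      · rw [hC1e]; exact Submodule.subset_span ⟨i, rfl⟩
      · rw [hB2e]; exact Submodule.subset_span ⟨i, rfl⟩
      · rw [hC2e]; exact Submodule.subset_span ⟨i, rfl⟩
    have hTS : ∀ B B' : Submodule F (Fin n → F), B ≤ Vp → B' ≤ Vm → (∀ u ∈ B, ∀ v ∈ B, hermForm n F q u v = 0) →
        (∀ u ∈ B', ∀ v ∈ B', hermForm n F q u v = 0) → ∀ u ∈ B ⊔ B', ∀ v ∈ B ⊔ B', hermForm n F q u v = 0 := by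
      intro B B' hB hB' hh hh' u hu v hv
      obtain ⟨a₁, ha₁, b₁, hb₁, rfl⟩ := Submodule.mem_sup.1 hu
      obtain ⟨a₂, ha₂, b₂, hb₂, rfl⟩ := Submodule.mem_sup.1 hv
      rw [herm_add_left, herm_add_right hF, herm_add_right hF, hh _ ha₁ _ ha₂, hh' _ hb₁ _ hb₂,
        horth _ (hB ha₁) _ (hB' hb₂), (herm_eq_zero_symm hF).1 (horth _ (hB ha₂) _ (hB' hb₁))]
      ring
    have h1 := (Submodule.finrank_add_le_finrank_add_finrank B1 B2).trans (Nat.add_le_add hB1d hB2d)
    have h2 := (Submodule.finrank_add_le_finrank_add_finrank C1 C2).trans (Nat.add_le_add hC1d hC2d)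
    have h3 := Submodule.finrank_sup_add_finrank_inf_eq (B1 ⊔ B2) (C1 ⊔ C2)
    rw [htop, finrank_top, Module.finrank_fin_fun] at h3
    have hbot : (B1 ⊔ B2) ⊓ (C1 ⊔ C2) = ⊥ := Submodule.finrank_eq_zero.1 (by omega)
    refine ⟨B1 ⊔ B2, C1 ⊔ C2, ⟨hTS _ _ hB1A hB2A hB1h hB2h, hTS _ _ hC1A hC2A hC1h hC2h,
      ⟨disjoint_iff.2 hbot, codisjoint_iff.2 htop⟩, by omega, by omega⟩, ?_, ?_⟩
    · rw [Submodule.map_sup, hmapp hμ0 (fun v hv => hp' v (hB1A hv)),
        hmapp (neg_ne_zero.2 hμ0) (fun v hv => hm' v (hB2A hv))]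
    · rw [Submodule.map_sup, hmapp hμ0 (fun v hv => hp' v (hC1A hv)),
        hmapp (neg_ne_zero.2 hμ0) (fun v hv => hm' v (hC2A hv))]
  · -- both eigenspaces are totally isotropic
    have hiso : ∀ {s : F} {V : Submodule F (Fin n → F)}, s * s ^ q = -1 → (∀ v ∈ V, T v = s • v) →
        (∀ u ∈ V, ∀ v ∈ V, hermForm n F q u v = 0) ∧ finrank F V ≤ m := by
      intro s V hs hV
      have h0 : ∀ u ∈ V, ∀ v ∈ V, hermForm n F q u v = 0 := by
        intro u hu v hv
        have h1 := hTh u v
        rw [hV u hu, hV v hv, herm_smul_left, herm_smul_right] at h1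
        have : (2 : F) * hermForm n F q u v = 0 := by linear_combination -h1 + hermForm n F q u v * hs
        exact (mul_eq_zero.1 this).resolve_left hF2
      refine ⟨h0, ?_⟩
      let r := Module.finBasis F V
      have hli := r.linearIndependent.map' V.subtype V.ker_subtype
      let Φ : (Fin n → F) →ₗ[F] (Fin (finrank F V) → F) := LinearMap.pi fun j => hermL n q (r j : Fin n → F)
      have hΦ : LinearMap.range Φ = ⊤ := LinearMap.range_eq_top.2 fun t => by
        obtain ⟨z, hz⟩ := exists_herm_eq hF (b := fun j => (r j : Fin n → F)) hli t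
        exact ⟨z, funext fun j => hz j⟩
      have hle : V ≤ LinearMap.ker Φ := fun u hu => LinearMap.mem_ker.2 (funext fun j => by
        simp only [Φ, LinearMap.pi_apply, hermL_apply, Pi.zero_apply]
        exact h0 u hu _ (r j).2)
      have h1 := LinearMap.finrank_range_add_finrank_ker Φ
      rw [hΦ, finrank_top, Module.finrank_fin_fun, Module.finrank_fin_fun] at h1
      have h2 := Submodule.finrank_mono hle
      omega
    obtain ⟨hp0, hpd⟩ := hiso hn1 hp'
    obtain ⟨hm0, hmd⟩ := hiso (show (-μ) * (-μ) ^ q = -1 by rw [hodd.neg_pow]; linear_combination hn1) hm'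
    exact ⟨Vp, Vm, ⟨hp0, hm0, hcompl, by omega, by omega⟩, hmapp hμ0 hp', hmapp (neg_ne_zero.2 hμ0) hm'⟩

end Cfsg.Agent.H98.PrimeElem
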