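import Cfsg.Prelude.Def_GeometricClasses
import Cfsg.Agent.Unitary.Order
import Cfsg.Agent.Unitary.Basis

/-!
Pairs of complementary totally isotropic subspaces of a hermitian space.
-/

set_option autoImplicit false

namespace Cfsg.Agent.H98.PrimeElem

open Matrix Module Cfsg.Agent.Unitary

set_option linter.unusedSectionVars false

variable {F : Type*} [Field F] [Fintype F] {n m q : ℕ}

/-- A polar pair: two complementary totally isotropic subspaces of dimension m. -/
structure IsPolarPair (q m : ℕ) (U W : Submodule F (Fin n → F)) : Prop where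
  left_isotropic : ∀ u ∈ U, ∀ v ∈ U, hermForm n F q u v = 0
  right_isotropic : ∀ u ∈ W, ∀ v ∈ W, hermForm n F q u v = 0
  compl : IsCompl U W
  finrank_left : finrank F U = m
  finrank_right : finrank F W = m

theorem IsPolarPair.symm {U W : Submodule F (Fin n → F)} (h : IsPolarPair q m U W) : IsPolarPair q m W U :=
  ⟨h.right_isotropic, h.left_isotropic, h.compl.symm, h.finrank_right, h.finrank_left⟩

theorem IsPolarPair.dim {U W : Submodule F (Fin n → F)} (h : IsPolarPair q m U W) : n = m + m := by
  rw [← Module.finrank_fin_fun (R := F) (n := n), ← Submodule.finrank_add_eq_of_isCompl h.compl, h.finrank_left,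
    h.finrank_right]

/-- A hyperbolic frame adapted to a polar pair. -/
theorem IsPolarPair.exists_frame (hF : Fintype.card F = q ^ 2) {U W : Submodule F (Fin n → F)}
    (h : IsPolarPair q m U W) :
    ∃ a : Fin 2 × Fin m → Fin n → F, LinearIndependent F a ∧ ⊤ ≤ Submodule.span F (Set.range a) ∧
      Submodule.span F (Set.range fun j => a (0, j)) = U ∧ Submodule.span F (Set.range fun j => a (1, j)) = W ∧
      ∀ z z', hermForm n F q (a z) (a z') = if z.1 ≠ z'.1 ∧ z.2 = z'.2 then 1 else 0 := by
  let β := Module.finBasisOfFinrankEq F U h.finrank_left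
  let Φ : W →ₗ[F] (Fin m → F) := LinearMap.pi fun j => (hermL n q (β j : Fin n → F)).comp W.subtype
  have hΦ : Function.Injective Φ := by
    rw [← LinearMap.ker_eq_bot, LinearMap.ker_eq_bot']
    intro w hw
    apply Subtype.ext
    refine eq_zero_of_forall_right hF fun v => ?_
    obtain ⟨u, hu, w', hw', rfl⟩ := Submodule.mem_sup.1 (h.compl.sup_eq_top.symm ▸ Submodule.mem_top (x := v))
    have hu' : u = ∑ j, β.repr ⟨u, hu⟩ j • (β j : Fin n → F) := by
      have := congrArg Subtype.val (β.sum_repr ⟨u, hu⟩)
      simp only [Submodule.coe_sum, Submodule.coe_smul] at this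
      exact this.symm
    rw [herm_add_right hF, h.right_isotropic _ w.2 _ hw', add_zero, hu', herm_sum_right hF]
    refine Finset.sum_eq_zero fun j _ => ?_
    rw [herm_smul_right]
    have := congrFun hw j
    simp only [Φ, LinearMap.pi_apply, LinearMap.comp_apply, Submodule.subtype_apply, hermL_apply, Pi.zero_apply] at this
    rw [this, mul_zero]
  let e := LinearEquiv.ofInjectiveOfFinrankEq Φ hΦ (by rw [h.finrank_right, Module.finrank_fin_fun])
  let γ := (Pi.basisFun F (Fin m)).map e.symm
  have hγ : ∀ j i, hermForm n F q (γ j : Fin n → F) (β i : Fin n → F) = if j = i then 1 else 0 := by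
    intro j i
    have : Φ (γ j) = Pi.single j 1 := by
      simp only [γ, Basis.map_apply, Pi.basisFun_apply]
      exact e.apply_symm_apply _
    have := congrFun this i
    simp only [Φ, LinearMap.pi_apply, LinearMap.comp_apply, Submodule.subtype_apply, hermL_apply] at this
    rw [this, Pi.single_apply]
    simp [eq_comm]
  let a : Fin 2 × Fin m → Fin n → F := fun z => ![(β z.2 : Fin n → F), (γ z.2 : Fin n → F)] z.1
  have hU : Submodule.span F (Set.range fun j => a (0, j)) = U := by
    simp only [a, Matrix.cons_val_zero]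
    rw [show (Set.range fun j => (β j : Fin n → F)) = U.subtype '' Set.range β from (Set.range_comp _ _),
      ← Submodule.map_span, β.span_eq, Submodule.map_top, Submodule.range_subtype]
  have hW : Submodule.span F (Set.range fun j => a (1, j)) = W := by
    simp only [a, Matrix.cons_val_one, Matrix.cons_val_zero]
    rw [show (Set.range fun j => (γ j : Fin n → F)) = W.subtype '' Set.range γ from (Set.range_comp _ _),
      ← Submodule.map_span, γ.span_eq, Submodule.map_top, Submodule.range_subtype]
  have hsp : ⊤ ≤ Submodule.span F (Set.range a) := by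
    rw [← h.compl.sup_eq_top, ← hU, ← hW]
    refine sup_le (Submodule.span_mono ?_) (Submodule.span_mono ?_) <;> rintro _ ⟨j, rfl⟩ <;> exact ⟨_, rfl⟩
  refine ⟨a, linearIndependent_of_top_le_span_of_card_eq_finrank hsp ?_, hsp, hU, hW, ?_⟩
  · rw [Fintype.card_prod, Fintype.card_fin, Fintype.card_fin, Module.finrank_fin_fun, h.dim]; omega
  · rintro ⟨s, j⟩ ⟨t, i⟩
    fin_cases s <;> fin_cases t <;> simp only [a, Fin.isValue, Fin.zero_eta, Fin.mk_one, Matrix.cons_val_zero,
      Matrix.cons_val_one, ne_eq, not_true_eq_false, false_and, if_false, zero_ne_one, one_ne_zero, not_false_eq_true,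
      true_and]
    · exact h.left_isotropic _ (β j).2 _ (β i).2
    · rw [← herm_swap hF, hγ]
      by_cases hji : j = i <;> simp [hji, eq_comm, zero_pow (q_ne_zero hF)]
    · exact hγ j i
    · exact h.right_isotropic _ (γ j).2 _ (γ i).2

theorem map_span_range {ι : Type*} {T : (Fin n → F) →ₗ[F] (Fin n → F)} {a b : ι → Fin n → F}
    (h : ∀ i, T (a i) = b i) : (Submodule.span F (Set.range a)).map T = Submodule.span F (Set.range b) := by
  rw [Submodule.map_span, ← Set.range_comp]
  exact congrArg _ (congrArg Set.range (funext h))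

/-- SU is transitive on polar pairs. -/
theorem exists_SU_map (hF : Fintype.card F = q ^ 2) (hm : 0 < m) {U W U' W' : Submodule F (Fin n → F)}
    (h : IsPolarPair q m U W) (h' : IsPolarPair q m U' W') :
    ∃ g ∈ Cfsg.GU n F q ⊓ Cfsg.Geo.specialLinear (Fin n) F,
      U.map (Matrix.toLin' (g : Matrix (Fin n) (Fin n) F)) = U' ∧
      W.map (Matrix.toLin' (g : Matrix (Fin n) (Fin n) F)) = W' := by
  classical
  obtain ⟨a, ha, has, haU, haW, hag⟩ := h.exists_frame hF
  obtain ⟨b, hb, hbs, hbU, hbW, hbg⟩ := h'.exists_frame hF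
  obtain ⟨g0, hg0⟩ := exists_isometry_of_gram hF ha has (b := b) fun i j => by rw [hag, hbg]
  have hdet0 : ((detGU n F q g0 : Fˣ)) ∈ (powMonoidHom (q + 1) : Fˣ →* Fˣ).ker := by
    rw [← detGU_range hF (n := n) (by have := h.dim; omega)]; exact ⟨g0, rfl⟩
  rw [← range_pow_sub_eq_ker hF] at hdet0
  obtain ⟨t, ht⟩ := hdet0
  rw [powMonoidHom_apply] at ht
  let i0 : Fin m := ⟨0, hm⟩
  let c : Fin 2 × Fin m → F := fun z => if z.2 = i0 then ![(t : F), ((t : F) ^ q)⁻¹] z.1 else 1
  have hc : ∀ z z' : Fin 2 × Fin m, z.1 ≠ z'.1 → z.2 = z'.2 → c z * c z' ^ q = 1 := by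
    rintro ⟨s, j⟩ ⟨s', j'⟩ hs (rfl : j = j')
    by_cases hj : j = i0
    · fin_cases s <;> fin_cases s' <;> simp_all [c, pow_q_q hF, inv_pow]
    · simp [c, hj]
  obtain ⟨k, hk⟩ := exists_isometry_of_gram hF hb hbs (b := fun z => c z • b z) fun z z' => by
    rw [herm_smul_left, herm_smul_right, hbg]
    split_ifs with hz
    · rw [mul_one, hc z z' hz.1 hz.2]
    · rw [mul_zero, mul_zero]
  have hkdet : ((k : GL (Fin n) F) : Matrix (Fin n) (Fin n) F).det = (t : F) * ((t : F) ^ q)⁻¹ := by
    let B := Basis.mk hb hbs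
    rw [← LinearMap.det_toLin', ← LinearMap.det_toMatrix B]
    have hM : LinearMap.toMatrix B B (Matrix.toLin' ((k : GL (Fin n) F) : Matrix (Fin n) (Fin n) F)) =
        Matrix.diagonal c := by
      ext u v
      rw [LinearMap.toMatrix_apply, Matrix.toLin'_apply, show B v = b v from Basis.mk_apply hb hbs v, hk, map_smul,
        ← show B v = b v from Basis.mk_apply hb hbs v, Basis.repr_self, Finsupp.smul_single, smul_eq_mul, mul_one,
        Finsupp.single_apply, Matrix.diagonal_apply]
      rcases eq_or_ne u v with h | h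
      · simp [h]
      · simp [h, h.symm]
    rw [hM, Matrix.det_diagonal, Fintype.prod_prod_type, Fin.prod_univ_two,
      Fintype.prod_eq_single i0 (fun j hj => by simp [c, hj]),
      Fintype.prod_eq_single i0 (fun j hj => by simp [c, hj])]
    simp [c]
  have hmap : ∀ z, ((k * g0 : GU n F q) : GL (Fin n) F).val *ᵥ a z = c z • b z := fun z => by
    rw [Subgroup.coe_mul, Units.val_mul, ← Matrix.mulVec_mulVec, hg0, hk]
  have hc0 : ∀ z, c z ≠ 0 := by
    rintro ⟨s, j⟩
    by_cases hj : j = i0
    · fin_cases s <;> simp [c, hj]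
    · simp [c, hj]
  have hsm : ∀ s : Fin 2, Submodule.span F (Set.range fun j => c (s, j) • b (s, j)) =
      Submodule.span F (Set.range fun j => b (s, j)) := fun s => by
    refine le_antisymm (Submodule.span_le.2 ?_) (Submodule.span_le.2 ?_) <;> rintro _ ⟨j, rfl⟩
    · exact Submodule.smul_mem _ _ (Submodule.subset_span ⟨j, rfl⟩)
    · exact (Submodule.smul_mem_iff _ (hc0 (s, j))).1 (Submodule.subset_span ⟨j, rfl⟩)
  refine ⟨((k * g0 : GU n F q) : GL (Fin n) F), ⟨(k * g0).2, ?_⟩, ?_, ?_⟩
  · refine MonoidHom.mem_ker.2 (Units.ext ?_)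
    show Matrix.det (((k * g0 : GU n F q) : GL (Fin n) F) : Matrix (Fin n) (Fin n) F) = 1
    rw [Subgroup.coe_mul, Units.val_mul, Matrix.det_mul, hkdet, ← detGU_val, ← ht, Units.val_pow_eq_pow_val]
    have htq : (t : F) ^ q ≠ 0 := pow_ne_zero _ (Units.ne_zero t)
    rw [mul_right_comm, ← pow_succ', Nat.sub_add_cancel (q_pos hF), mul_inv_cancel₀ htq]
  · rw [← haU, map_span_range (fun j => (Matrix.toLin'_apply _ _).trans (hmap (0, j))), hsm, hbU]
  · rw [← haW, map_span_range (fun j => (Matrix.toLin'_apply _ _).trans (hmap (1, j))), hsm, hbW]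

/-- For an isometry fixing both members of a polar pair, a shift by a norm-one scalar has even rank. -/
theorem even_rank_of_fixing (hF : Fintype.card F = q ^ 2) {U W : Submodule F (Fin n → F)}
    (h : IsPolarPair q m U W) {M : Matrix (Fin n) (Fin n) F} (hM : Preserves q M)
    (hU : U.map (Matrix.toLin' M) = U) (hW : W.map (Matrix.toLin' M) = W) {l : F} (hl : l * l ^ q = 1) :
    Even (M - l • 1).rank := by
  set T := Matrix.toLin' M with hT
  set N := T - l • (1 : Module.End F (Fin n → F)) with hN
  have hrank : (M - l • 1).rank = finrank F (LinearMap.range N) := by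
    have : (M - l • 1).mulVecLin = N := LinearMap.ext fun v => by
      simp [hN, hT, Matrix.toLin'_apply]
    rw [Matrix.rank, this]
  set R := U.map N with hR
  set S := W.map N with hS
  have hRU : R ≤ U := by
    rintro _ ⟨u, hu, rfl⟩
    exact U.sub_mem (hU ▸ ⟨u, hu, rfl⟩) (U.smul_mem _ hu)
  have hSW : S ≤ W := by
    rintro _ ⟨u, hu, rfl⟩
    exact W.sub_mem (hW ▸ ⟨u, hu, rfl⟩) (W.smul_mem _ hu)
  have hRS : LinearMap.range N = R ⊔ S := by
    rw [hR, hS, ← Submodule.map_sup, h.compl.sup_eq_top, Submodule.map_top]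
  have hrS : finrank F (LinearMap.range N) = finrank F R + finrank F S := by
    rw [hRS, ← Submodule.finrank_sup_add_finrank_inf_eq, disjoint_iff.1 (Disjoint.mono hRU hSW h.compl.disjoint),
      finrank_bot, add_zero]
  let r := Module.finBasis F R
  let Φ : (Fin n → F) →ₗ[F] (Fin (finrank F R) → F) := LinearMap.pi fun j => hermL n q (r j : Fin n → F)
  have hΦ : LinearMap.range Φ = ⊤ := LinearMap.range_eq_top.2 fun t => by
    obtain ⟨z, hz⟩ := exists_herm_eq hF (b := fun j => (r j : Fin n → F))
      (r.linearIndependent.map' R.subtype R.ker_subtype) t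
    exact ⟨z, funext fun j => hz j⟩
  have hker : LinearMap.ker Φ ⊓ W = LinearMap.ker N ⊓ W := by
    ext w
    simp only [Submodule.mem_inf, LinearMap.mem_ker, and_congr_left_iff]
    intro hw
    have hTl : ∀ u v, hermForm n F q (T u) (T v) = hermForm n F q u v := fun u v => by
      simp only [hT, Matrix.toLin'_apply]; exact hM u v
    constructor
    · intro hw0
      have h0 : ∀ u ∈ U, hermForm n F q (N u) w = 0 := by
        intro u hu
        rw [show N u = ∑ j, r.repr ⟨N u, ⟨u, hu, rfl⟩⟩ j • (r j : Fin n → F) by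
          have := congrArg Subtype.val (r.sum_repr ⟨N u, ⟨u, hu, rfl⟩⟩)
          simp only [Submodule.coe_sum, Submodule.coe_smul] at this
          exact this.symm, herm_sum_left]
        refine Finset.sum_eq_zero fun j _ => ?_
        have := congrFun hw0 j
        simp only [Φ, LinearMap.pi_apply, hermL_apply, Pi.zero_apply] at this
        rw [herm_smul_left, (herm_eq_zero_symm hF).1 this, mul_zero]
      refine eq_zero_of_forall_right hF fun v => ?_
      obtain ⟨u', hu', w', hw', rfl⟩ := Submodule.mem_sup.1 (h.compl.sup_eq_top.symm ▸ Submodule.mem_top (x := v))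
      have hNw : N w ∈ W := hSW ⟨w, hw, rfl⟩
      rw [herm_add_right hF, h.right_isotropic _ hNw _ hw', add_zero]
      obtain ⟨u, hu, rfl⟩ : u' ∈ U.map T := hU.symm ▸ hu'
      have h1 := h0 u hu
      rw [hN, LinearMap.sub_apply, LinearMap.smul_apply, Module.End.one_apply, herm_sub_left, herm_smul_left,
        sub_eq_zero] at h1
      apply (herm_eq_zero_symm hF).1
      rw [hN, LinearMap.sub_apply, LinearMap.smul_apply, Module.End.one_apply, herm_sub_right hF, herm_smul_right,
        hTl, h1]
      linear_combination (-hermForm n F q u w) * hl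
    · intro hw0
      funext j
      have hTw : T w = l • w := by
        simpa [hN, sub_eq_zero] using hw0
      obtain ⟨u, hu, hu'⟩ := (r j).2
      simp only [Φ, LinearMap.pi_apply, hermL_apply, Pi.zero_apply]
      apply (herm_eq_zero_symm hF).1
      rw [← hu', hN, LinearMap.sub_apply, LinearMap.smul_apply, Module.End.one_apply, herm_sub_left, herm_smul_left]
      have := hTl u w
      rw [hTw, herm_smul_right] at this
      linear_combination l * this - hermForm n F q (T u) w * hl
  have hUk : U ≤ LinearMap.ker Φ := fun u hu => by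
    refine LinearMap.mem_ker.2 (funext fun j => ?_)
    simp only [Φ, LinearMap.pi_apply, hermL_apply, Pi.zero_apply]
    exact h.left_isotropic _ hu _ (hRU (r j).2)
  have h1 := LinearMap.finrank_range_add_finrank_ker Φ
  rw [hΦ, finrank_top, Module.finrank_fin_fun, Module.finrank_fin_fun] at h1
  have hdim := h.dim
  have h2 := Submodule.finrank_sup_add_finrank_inf_eq (LinearMap.ker Φ) W
  rw [show LinearMap.ker Φ ⊔ W = ⊤ from top_le_iff.1 (h.compl.sup_eq_top ▸ sup_le_sup_right hUk W), finrank_top,
    Module.finrank_fin_fun, h.finrank_right, hker] at h2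
  have h3 := LinearMap.finrank_range_add_finrank_ker (N.domRestrict W)
  rw [LinearMap.range_domRestrict, h.finrank_right] at h3
  have h4 : finrank F (LinearMap.ker (N.domRestrict W)) = finrank F ↥(LinearMap.ker N ⊓ W) := by
    rw [LinearMap.ker_domRestrict, (Submodule.equivMapOfInjective W.subtype W.injective_subtype _).finrank_eq,
      Submodule.map_comap_subtype, inf_comm]
  rw [hrank, hrS]
  exact ⟨finrank F R, by rw [← hS] at h3; omega⟩

/-- An isometry interchanging the members moves at least m dimensions under every shift. -/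
theorem le_rank_of_swapping {U W : Submodule F (Fin n → F)} (h : IsPolarPair q m U W)
    {M : Matrix (Fin n) (Fin n) F} (hU : U.map (Matrix.toLin' M) = W) (hM : Function.Injective M.mulVec) (l : F) :
    m ≤ (M - l • 1).rank := by
  have hinj : Function.Injective ((M - l • 1).mulVecLin ∘ₗ U.subtype) := by
    rw [← LinearMap.ker_eq_bot, LinearMap.ker_eq_bot']
    intro u hu
    simp only [LinearMap.comp_apply, Submodule.subtype_apply, Matrix.mulVecLin_apply, Matrix.sub_mulVec,
      Matrix.smul_mulVec, Matrix.one_mulVec, sub_eq_zero] at hu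
    have h1 : M *ᵥ (u : Fin n → F) ∈ W := hU ▸ ⟨u, u.2, Matrix.toLin'_apply _ _⟩
    have h2 : M *ᵥ (u : Fin n → F) = 0 := Submodule.disjoint_def.1 h.compl.disjoint _ (hu ▸ U.smul_mem _ u.2) h1
    exact Subtype.ext (hM (h2.trans (Matrix.mulVec_zero M).symm))
  calc m = finrank F (LinearMap.range ((M - l • 1).mulVecLin ∘ₗ U.subtype)) := by
        rw [LinearMap.finrank_range_of_inj hinj, h.finrank_left]
    _ ≤ _ := Submodule.finrank_mono (LinearMap.range_comp_le_range _ _)

end Cfsg.Agent.H98.PrimeElem
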