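import Cfsg.Agent.H98.PrimeElem.Polar
import Cfsg.Agent.H98.PrimeElem.Elements

/-!
Orders and elements for polar pair stabilisers.
-/

set_option autoImplicit false
set_option linter.unusedSectionVars false

namespace Cfsg.Agent.H98.PrimeElem

open Matrix Module Cfsg.Agent.Unitary

variable {F : Type*} [Field F] [Fintype F] {n m q r : ℕ}

theorem prod_range_two_mul (f : ℕ → ℕ) (m : ℕ) :
    ∏ i ∈ Finset.range (2 * m), f i = (∏ i ∈ Finset.range m, f (2 * i)) * ∏ i ∈ Finset.range m, f (2 * i + 1) := by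
  induction m with
  | zero => simp
  | succ m ih =>
    rw [show 2 * (m + 1) = 2 * m + 1 + 1 by ring, Finset.prod_range_succ, Finset.prod_range_succ, ih,
      Finset.prod_range_succ, Finset.prod_range_succ]
    ring

theorem card_GL_eq {Q : ℕ} (hF : Fintype.card F = Q) (m : ℕ) :
    ∃ b : ℕ, Nat.card (GL (Fin m) F) = Q ^ b * ∏ i ∈ Finset.range m, (Q ^ (i + 1) - 1) := by
  refine ⟨∑ i ∈ Finset.range m, i, ?_⟩
  rw [Matrix.card_GL_field, hF, ← Finset.prod_pow_eq_pow_sum, Fin.prod_univ_eq_prod_range (fun i => Q ^ m - Q ^ i) m,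
    ← Finset.prod_range_reflect (fun i => Q ^ (i + 1) - 1) m, ← Finset.prod_mul_distrib]
  refine Finset.prod_congr rfl fun i hi => ?_
  rw [Finset.mem_range] at hi
  rw [Nat.mul_sub, mul_one, ← pow_add, show i + (m - 1 - i + 1) = m by omega]

/-- The stabiliser of a polar pair contains the image of GL_m; the index divides the quotient of orders. -/
theorem relIndex_mul_card_GL_dvd (hF : Fintype.card F = q ^ 2) {D : Fin 2 → Submodule F (Fin n → F)}
    (h : IsPolarPair q m (D 0) (D 1)) :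
    (Cfsg.Geo.decompositionStabilizer D).relIndex (Cfsg.GU n F q ⊓ Cfsg.Geo.specialLinear (Fin n) F) *
      Nat.card (GL (Fin m) F) ∣ Nat.card (Cfsg.GU n F q) := by
  classical
  obtain ⟨a, ha, has, haU, haW, hag⟩ := h.exists_frame hF
  let B := Basis.mk ha has
  set H := Cfsg.Geo.decompositionStabilizer D with hH
  set G := Cfsg.GU n F q ⊓ Cfsg.Geo.specialLinear (Fin n) F with hG
  -- the acting element for a matrix A
  let sg : GL (Fin m) F → Fin 2 × Fin m → Fin n → F := fun A z =>
    ![∑ j, (A : Matrix (Fin m) (Fin m) F) j z.2 • a (0, j),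
      ∑ j, (((A⁻¹ : GL (Fin m) F) : Matrix (Fin m) (Fin m) F) z.2 j) ^ q • a (1, j)] z.1
  have hsg : ∀ (A : GL (Fin m) F) (z z' : Fin 2 × Fin m),
      hermForm n F q (sg A z) (sg A z') = hermForm n F q (a z) (a z') := by
    intro A
    have hAA : ∀ i j, ∑ l, ((A⁻¹ : GL (Fin m) F) : Matrix (Fin m) (Fin m) F) i l * (A : Matrix (Fin m) (Fin m) F) l j
        = if i = j then 1 else 0 := fun i j => by
      have := congrFun (congrFun (Units.inv_mul A) i) j
      rw [Matrix.mul_apply, Matrix.one_apply] at this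
      exact this
    rintro ⟨s, i⟩ ⟨t, j⟩
    rw [hag]
    fin_cases s <;> fin_cases t <;>
      simp only [sg, Fin.isValue, Fin.zero_eta, Fin.mk_one, Matrix.cons_val_zero, Matrix.cons_val_one,
        herm_sum_left, herm_sum_right hF, herm_smul_left, herm_smul_right, hag, ne_eq, not_true_eq_false, false_and,
        if_false, zero_ne_one, one_ne_zero, not_false_eq_true, true_and, mul_zero, Finset.sum_const_zero, mul_ite,
        mul_one, pow_q_q hF]
    · simp only [Finset.sum_ite_eq', Finset.mem_univ, if_true]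
      rw [hAA j i]
      simp [eq_comm]
    · have h1 := congrArg (fun x : F => x ^ q) (hAA i j)
      simp only [sum_pow_q hF, mul_pow, ite_pow, one_pow, zero_pow (q_ne_zero hF)] at h1
      simp only [Finset.sum_ite_eq', Finset.mem_univ, if_true]
      rw [← h1]
      exact Finset.sum_congr rfl fun l _ => mul_comm _ _
  have hex : ∀ A : GL (Fin m) F, ∃ g : Cfsg.GU n F q, ∀ z, ((g : GL (Fin n) F).val) *ᵥ a z = sg A z := fun A =>
    exists_isometry_of_gram hF ha has fun z z' => hsg A z z'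
  choose φ hφ using hex
  have hφinj : Function.Injective φ := by
    intro A A' hAA'
    refine Units.ext (Matrix.ext fun i j => ?_)
    have h1 : sg A (0, j) = sg A' (0, j) := by rw [← hφ, ← hφ, hAA']
    simp only [sg, Matrix.cons_val_zero] at h1
    have h2 := congrArg (fun v => B.repr v (0, i)) h1
    simpa [map_sum, map_smul, ← show ∀ z, B z = a z from Basis.mk_apply ha has, Finsupp.single_apply,
      Prod.ext_iff] using h2
  have hφU : ∀ A, (D 0).map (Matrix.toLin' ((φ A : GL (Fin n) F) : Matrix (Fin n) (Fin n) F)) = D 0 ∧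
      (D 1).map (Matrix.toLin' ((φ A : GL (Fin n) F) : Matrix (Fin n) (Fin n) F)) = D 1 := by
    intro A
    have hT : Function.Injective (Matrix.toLin' ((φ A : GL (Fin n) F) : Matrix (Fin n) (Fin n) F)) := fun u v huv =>
      (Preserves.mulVec_injective hF (mem_GU_iff.1 (φ A).2))
        (by simpa [Matrix.toLin'_apply] using huv)
    constructor <;> refine Submodule.eq_of_le_of_finrank_eq ?_ (Submodule.equivMapOfInjective _ hT _).finrank_eq.symm
    · rw [← haU, Submodule.map_span, Submodule.span_le]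
      rintro _ ⟨_, ⟨j, rfl⟩, rfl⟩
      rw [Matrix.toLin'_apply, hφ]
      simp only [sg, Matrix.cons_val_zero]
      exact sum_mem fun l _ => Submodule.smul_mem _ _ (Submodule.subset_span ⟨l, rfl⟩)
    · rw [← haW, Submodule.map_span, Submodule.span_le]
      rintro _ ⟨_, ⟨j, rfl⟩, rfl⟩
      rw [Matrix.toLin'_apply, hφ]
      simp only [sg, Matrix.cons_val_one, Matrix.cons_val_zero]
      exact sum_mem fun l _ => Submodule.smul_mem _ _ (Submodule.subset_span ⟨l, rfl⟩)
  -- GU has index q + 1 over G, so H ⊓ GU has index at most q + 1 over H ⊓ G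
  have hHle : ∀ A, (φ A : GL (Fin n) F) ∈ H ⊓ Cfsg.GU n F q := fun A =>
    ⟨⟨1, Fin.forall_fin_two.2 ⟨(hφU A).1, (hφU A).2⟩⟩, (φ A).2⟩
  let K : Subgroup (Cfsg.GU n F q) := H.subgroupOf (Cfsg.GU n F q)
  have hK : ∀ A, φ A ∈ K := fun A => (hHle A).1
  have hmulcard : Nat.card (GL (Fin m) F) ∣ Nat.card K := by
    let ψ : GL (Fin m) F →* Cfsg.GU n F q := MonoidHom.mk' φ fun A A' => by
      refine Subtype.ext (Units.ext (Matrix.toLin'.injective ?_))
      refine LinearMap.ext_on_range (top_le_iff.1 has) fun z => ?_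
      obtain ⟨s, i⟩ := z
      rw [Matrix.toLin'_apply, hφ, Subgroup.coe_mul, Units.val_mul, Matrix.toLin'_mul, LinearMap.comp_apply,
        Matrix.toLin'_apply, Matrix.toLin'_apply, hφ]
      fin_cases s
      · simp only [sg, Fin.zero_eta, Matrix.cons_val_zero, Matrix.mulVec_sum, Matrix.mulVec_smul, hφ,
          Finset.smul_sum, smul_smul, Units.val_mul, Matrix.mul_apply, Finset.sum_smul]
        rw [Finset.sum_comm]
        exact Finset.sum_congr rfl fun l _ => Finset.sum_congr rfl fun l' _ => by rw [mul_comm]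
      · simp only [sg, Fin.mk_one, Fin.isValue, Matrix.cons_val_one, Matrix.cons_val_zero, Matrix.mulVec_sum,
          Matrix.mulVec_smul, hφ, Finset.smul_sum, smul_smul, _root_.mul_inv_rev, Units.val_mul, Matrix.mul_apply,
          Finset.sum_smul, sum_pow_q hF, mul_pow]
        rw [Finset.sum_comm]
    rw [Nat.card_congr (MonoidHom.ofInjective (f := ψ) hφinj).toEquiv]
    exact Subgroup.card_dvd_of_le (by rintro _ ⟨A, rfl⟩; exact hK A)
  -- the index of G in GU
  let G' : Subgroup (Cfsg.GU n F q) := (detGU n F q).ker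
  have hG' : G' = G.subgroupOf (Cfsg.GU n F q) := by
    ext g
    simp only [G', hG, MonoidHom.mem_ker, Subgroup.mem_subgroupOf, Subgroup.mem_inf, SetLike.coe_mem, true_and]
    exact Iff.rfl
  have hGle : G ≤ Cfsg.GU n F q := inf_le_left
  have h1 : H.relIndex G = K.relIndex G' := by
    rw [hG', Subgroup.relIndex_subgroupOf hGle]
  rw [h1]
  have h2 : K.relIndex G' ∣ K.index := by
    have : G'.Normal := MonoidHom.normal_ker _
    have e1 : K.relIndex G' * G'.index = (K ⊓ G').index := by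
      rw [← Subgroup.relIndex_mul_index (inf_le_right : K ⊓ G' ≤ G'), Subgroup.inf_relIndex_right]
    have e2 : G'.relIndex K * K.index = (K ⊓ G').index := by
      rw [← Subgroup.relIndex_mul_index (inf_le_left : K ⊓ G' ≤ K), Subgroup.inf_relIndex_left]
    obtain ⟨t, ht⟩ := Subgroup.relIndex_dvd_index_of_normal G' K
    refine ⟨t, Nat.eq_of_mul_eq_mul_left (n := G'.relIndex K) (Nat.pos_of_ne_zero fun h0 =>
      Subgroup.index_ne_zero_of_finite (H := G') (by rw [ht, h0, zero_mul])) ?_⟩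
    rw [e2, ← e1, ht]; ring
  rw [← Subgroup.card_mul_index K, mul_comm]
  exact mul_dvd_mul hmulcard h2

end Cfsg.Agent.H98.PrimeElem

namespace Cfsg.Agent.H98.PrimeElem

open Matrix Module Cfsg.Agent.Unitary

variable {F : Type*} [Field F] [Fintype F] {n m q r : ℕ}

/-- A prime dividing the index divides q ^ j + 1 for some odd j ≤ n. -/
theorem exists_odd_dvd (hF : Fintype.card F = q ^ 2) (hm : 0 < m) (hr : r.Prime) (hrq : ¬ r ∣ q)
    {D : Fin 2 → Submodule F (Fin n → F)} (h : IsPolarPair q m (D 0) (D 1))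
    (hΩ : r ∣ (Cfsg.Geo.decompositionStabilizer D).relIndex (Cfsg.GU n F q ⊓ Cfsg.Geo.specialLinear (Fin n) F)) :
    ∃ J : ℕ, Odd J ∧ J ≤ n ∧ r ∣ q ^ J + 1 := by
  have hd := relIndex_mul_card_GL_dvd hF h
  obtain ⟨b, hb⟩ := card_GL_eq hF m
  have hn2 : n = 2 * m := by have := h.dim; omega
  set O := ∏ i ∈ Finset.range m, (q ^ (2 * i + 1) + 1) with hO
  set E := ∏ i ∈ Finset.range m, ((q ^ 2) ^ (i + 1) - 1) with hE
  have hU : Nat.card (Cfsg.GU n F q) = q ^ (n * (n - 1) / 2) * (O * E) := by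
    rw [card_GU hF]
    congr 1
    rw [hn2, prod_range_two_mul]
    congr 1
    · exact Finset.prod_congr rfl fun i _ => if_pos (even_two_mul i)
    · refine Finset.prod_congr rfl fun i _ => (if_neg (by simp [parity_simps])).trans ?_
      rw [← pow_mul]; ring_nf
  rw [hb, hU] at hd
  have hE0 : E ≠ 0 := by
    intro h0
    have := hb ▸ (Nat.card_pos (α := GL (Fin m) F))
    rw [h0, mul_zero] at this
    exact lt_irrefl 0 this
  have hd' : (Cfsg.Geo.decompositionStabilizer D).relIndex (Cfsg.GU n F q ⊓ Cfsg.Geo.specialLinear (Fin n) F) *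
      (q ^ 2) ^ b ∣ q ^ (n * (n - 1) / 2) * O := by
    refine Nat.dvd_of_mul_dvd_mul_right (Nat.pos_of_ne_zero hE0) ?_
    simpa [mul_assoc] using hd
  rcases hr.dvd_mul.1 ((dvd_mul_of_dvd_left hΩ _).trans hd') with hq' | hO'
  · exact absurd (hr.dvd_of_dvd_pow hq') hrq
  · obtain ⟨i, hi, hi'⟩ := hr.prime.exists_mem_finset_dvd hO'
    rw [Finset.mem_range] at hi
    exact ⟨2 * i + 1, odd_two_mul_add_one i, by omega, hi'⟩

/-- For an odd prime r ∤ q(q+1) dividing q^J + 1 with J ≤ n odd, SU_n has a non-scalar x with x^r = 1 such that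
x - 1 has odd rank. -/
theorem exists_unitary_odd (hF : Fintype.card F = q ^ 2) [hr : Fact r.Prime] (hr2 : r ≠ 2) (hrq : ¬ r ∣ q)
    (hrF : (r : F) ≠ 0) (hrq1 : ¬ r ∣ q + 1) {J : ℕ} (hJ : Odd J) (hJn : J ≤ n) (hd : r ∣ q ^ J + 1) :
    ∃ x : GL (Fin n) F, x ∈ Cfsg.GU n F q ⊓ Cfsg.Geo.specialLinear (Fin n) F ∧
      (x : Matrix (Fin n) (Fin n) F) ^ r = 1 ∧ Odd ((x : Matrix (Fin n) (Fin n) F) - 1).rank := by
  classical
  set j := orderOf ((q ^ 2 : ℕ) : ZMod r) with hj
  have hq0 : (q : ZMod r) ≠ 0 := fun h => hrq ((ZMod.natCast_eq_zero_iff q r).1 h)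
  have hJm : (q : ZMod r) ^ J = -1 := by
    have : ((q ^ J + 1 : ℕ) : ZMod r) = 0 := (ZMod.natCast_eq_zero_iff _ _).2 hd
    push_cast at this
    exact eq_neg_of_add_eq_zero_left this
  have hjJ : j ∣ J := orderOf_dvd_of_pow_eq_one (by
    rw [Nat.cast_pow, ← pow_mul, mul_comm, pow_mul, hJm, neg_one_sq])
  have hjodd : Odd j := hJ.of_dvd_nat hjJ
  have hjn : j ≤ n := (Nat.le_of_dvd hJ.pos hjJ).trans hJn
  have hm1 : (1 : ZMod r) ≠ -1 := by
    intro h
    have h2 : ((2 : ℕ) : ZMod r) = 0 := by push_cast; linear_combination h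
    exact hr2 ((Nat.prime_dvd_prime_iff_eq hr.out Nat.prime_two).1 ((ZMod.natCast_eq_zero_iff 2 r).1 h2))
  have hsq : ((q : ZMod r) ^ j) ^ 2 = 1 := by
    rw [← pow_mul, mul_comm, pow_mul, ← Nat.cast_pow, hj, pow_orderOf_eq_one]
  have hdj : r ∣ q ^ j + 1 := by
    rw [← ZMod.natCast_eq_zero_iff]
    push_cast
    rcases sq_eq_one_iff.1 hsq with h | h
    · exfalso
      obtain ⟨c, hc⟩ := hjJ
      rw [hc, pow_mul, h, one_pow] at hJm
      exact hm1 hJm
    · rw [h, neg_add_cancel]
  have hcard : r ∣ Nat.card (Cfsg.GU j F q) := by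
    rw [card_GU hF]
    refine dvd_mul_of_dvd_right (dvd_trans ?_ (Finset.dvd_prod_of_mem _
      (Finset.mem_range.2 (Nat.sub_one_lt_of_lt hjodd.pos)))) _
    rw [guFactor, if_pos (by obtain ⟨c, hc⟩ := hjodd; exact ⟨c, by omega⟩), Nat.sub_add_cancel hjodd.pos]
    exact hdj
  obtain ⟨y, hy⟩ := exists_prime_orderOf_dvd_card' r hcard
  set M : Matrix (Fin j) (Fin j) F := ((y : GL (Fin j) F) : Matrix (Fin j) (Fin j) F) with hM
  let E : Fin j ⊕ Fin (n - j) ≃ Fin n := finSumFinEquiv.trans (finCongr (by omega))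
  set Y : Matrix (Fin j ⊕ Fin (n - j)) (Fin j ⊕ Fin (n - j)) F := Matrix.fromBlocks M 0 0 1 with hY
  have hYp : ∀ k : ℕ, Y ^ k = Matrix.fromBlocks (M ^ k) 0 0 1 := by
    intro k
    induction k with
    | zero => simp [Matrix.fromBlocks_one]
    | succ k ih => rw [pow_succ, ih, hY, Matrix.fromBlocks_multiply, pow_succ]; simp
  set X := Matrix.reindexAlgEquiv F F E Y with hX
  have hMr : M ^ r = 1 := by
    rw [hM, ← Units.val_pow_eq_pow_val, ← Subgroup.coe_pow, ← hy, pow_orderOf_eq_one]; rfl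
  have hXr : X ^ r = 1 := by rw [hX, ← map_pow, hYp, hMr, Matrix.fromBlocks_one, map_one]
  have hMp : Mᵀ * M.map (fun x => x ^ q) = 1 := (preserves_iff_transpose_mul hF).1 (mem_GU_iff.1 y.2)
  have hXp : Preserves q X := by
    rw [preserves_iff_transpose_mul hF, hX, Matrix.coe_reindexAlgEquiv]
    have h1 : (Matrix.reindex E E Y)ᵀ = Matrix.reindex E E Yᵀ := rfl
    have h2 : (Matrix.reindex E E Y).map (fun x => x ^ q) = Matrix.reindex E E (Y.map fun x => x ^ q) := rfl
    rw [h1, h2, ← Matrix.coe_reindexAlgEquiv (R := F), ← map_mul, hY, Matrix.fromBlocks_transpose,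
      Matrix.fromBlocks_map, Matrix.fromBlocks_multiply]
    simp only [Matrix.transpose_zero, Matrix.transpose_one, Matrix.map_zero (fun x : F => x ^ q) (zero_pow (q_ne_zero hF)),
      Matrix.map_one (fun x : F => x ^ q) (zero_pow (q_ne_zero hF)) (one_pow q), Matrix.mul_zero, Matrix.zero_mul, add_zero, zero_add,
      Matrix.one_mul, hMp, Matrix.fromBlocks_one, map_one]
  let x : GL (Fin n) F := (IsUnit.of_pow_eq_one hXr hr.out.ne_zero).unit
  have hxv : (x : Matrix (Fin n) (Fin n) F) = X := rfl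
  refine ⟨x, ⟨mem_GU_iff.2 (hxv ▸ hXp), MonoidHom.mem_ker.2 (Units.ext ?_)⟩, hXr, ?_⟩
  · show Matrix.det X = 1
    have hdet0 : X.det ≠ 0 := fun h0 => by simpa [h0] using hXp.det_norm hF
    set u := Units.mk0 X.det hdet0 with hu
    have h1 : orderOf u ∣ r := orderOf_dvd_of_pow_eq_one (Units.ext (by
      rw [Units.val_pow_eq_pow_val, hu, Units.val_mk0, ← Matrix.det_pow, hXr, Matrix.det_one, Units.val_one]))
    have h2 : orderOf u ∣ q + 1 := orderOf_dvd_of_pow_eq_one (Units.ext (by
      rw [Units.val_pow_eq_pow_val, hu, Units.val_mk0, pow_succ', hXp.det_norm hF, Units.val_one]))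
    rcases (Nat.dvd_prime hr.out).1 h1 with h | h
    · exact congrArg Units.val (orderOf_eq_one_iff.1 h)
    · exact absurd (h ▸ h2) hrq1
  · show Odd (X - 1).rank
    have hX1 : (X - 1).rank = (M - 1).rank := by
      apply le_antisymm
      · rw [hX, ← map_one (Matrix.reindexAlgEquiv F F E), ← map_sub, Matrix.coe_reindexAlgEquiv, Matrix.rank_reindex]
        have : Y - 1 = Matrix.fromRows (M - 1) 0 * Matrix.fromCols (1 : Matrix (Fin j) (Fin j) F) 0 := by
          rw [hY, Matrix.fromRows_mul_fromCols]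
          ext (u | u) (v | v) <;> simp [Matrix.one_apply]
        rw [this]
        refine (Matrix.rank_mul_le_left _ _).trans ?_
        have : Matrix.fromRows (M - 1) (0 : Matrix (Fin (n - j)) (Fin j) F) =
            Matrix.fromRows (1 : Matrix (Fin j) (Fin j) F) 0 * (M - 1) := by
          rw [Matrix.fromRows_mul, Matrix.one_mul, Matrix.zero_mul]
        rw [this]
        exact Matrix.rank_mul_le_right _ _
      · rw [hX, ← map_one (Matrix.reindexAlgEquiv F F E), ← map_sub, Matrix.coe_reindexAlgEquiv, Matrix.rank_reindex]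
        have : M - 1 = Matrix.fromCols (1 : Matrix (Fin j) (Fin j) F) (0 : Matrix (Fin j) (Fin (n - j)) F) * (Y - 1) *
            Matrix.fromRows (1 : Matrix (Fin j) (Fin j) F) (0 : Matrix (Fin (n - j)) (Fin j) F) := by
          rw [hY, ← Matrix.fromBlocks_one, sub_eq_add_neg (Matrix.fromBlocks M 0 0 1), Matrix.fromBlocks_neg,
            Matrix.fromBlocks_add, Matrix.fromCols_mul_fromBlocks, Matrix.fromCols_mul_fromRows]
          simp [sub_eq_add_neg]
        rw [this]
        exact (Matrix.rank_mul_le_left _ _).trans (Matrix.rank_mul_le_right _ _)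
    have hle : (M - 1).rank ≤ j := (Matrix.rank_le_card_width _).trans (le_of_eq (Fintype.card_fin j))
    have hne : M ≠ 1 := fun h0 => by
      have : y = 1 := Subtype.ext (Units.ext h0)
      rw [this, orderOf_one] at hy
      exact hr.out.ne_one hy.symm
    have hge : j ≤ (M - 1).rank :=
      le_rank_sub_one (r := r) hF (fun h => hrq (hr.out.dvd_of_dvd_pow h)) hrF hMr hne
    rw [hX1, le_antisymm hle hge]
    exact hjodd

end Cfsg.Agent.H98.PrimeElem
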