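import Cfsg.Agent.H98.PrimeElem.Witness
import Cfsg.Agent.H98.PrimeElem.Elements
import Cfsg.Agent.Symplectic.Order
import Cfsg.Prelude.Def_ClassicalGeometry

/-!
Rank bounds for elements of prime order in a symplectic-orthogonal tensor product.
-/

set_option autoImplicit false

namespace Cfsg.Agent.H98.PrimeElem

open Matrix Module
open scoped Kronecker

variable {F : Type*} [Field F]

/-- A nontrivial matrix with M^r = 1 has i = ord(q mod r) independent iterates of some vector. -/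
theorem exists_cyclic [Fintype F] {b r q : ℕ} [hr : Fact r.Prime] (hq : Fintype.card F = q) (hrq : ¬ r ∣ q)
    (hrF : (r : F) ≠ 0) {M : Matrix (Fin b) (Fin b) F} (hM : M ^ r = 1) (hne : M ≠ 1) :
    ∃ u : Fin b → F, LinearIndependent F (fun l : Fin (orderOf (q : ZMod r)) => (M ^ (l : ℕ)) *ᵥ u) := by
  classical
  obtain ⟨u, hu⟩ : ∃ u, M *ᵥ u ≠ u := by
    by_contra h
    push Not at h
    exact hne (Matrix.ext_iff_mulVec.2 fun v => by rw [h, Matrix.one_mulVec])
  refine ⟨u, ?_⟩
  set i := orderOf (q : ZMod r) with hi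
  suffices h : ∀ k, k ≤ i → LinearIndependent F (fun l : Fin k => (M ^ (l : ℕ)) *ᵥ u) from h i le_rfl
  intro k
  induction k with
  | zero => exact fun _ => linearIndependent_empty_type
  | succ k ih =>
    intro hk
    have hli := ih (by omega)
    rw [linearIndependent_finSucc']
    refine ⟨hli, fun hmem => ?_⟩
    set S := Submodule.span F (Set.range fun l : Fin k => (M ^ (l : ℕ)) *ᵥ u) with hS
    have hmem' : (M ^ k) *ᵥ u ∈ S := hmem
    have huS : u ∈ S := by
      rcases Nat.eq_zero_or_pos k with rfl | hk0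
      · simpa using hmem'
      · exact Submodule.subset_span ⟨⟨0, hk0⟩, by simp⟩
    set T := Matrix.toLinAlgEquiv' M with hT
    have hmaps : ∀ v ∈ S, T v ∈ S := by
      intro v hv
      suffices h : S ≤ S.comap T from h hv
      rw [hS, Submodule.span_le]
      rintro _ ⟨l, rfl⟩
      show M *ᵥ ((M ^ (l : ℕ)) *ᵥ u) ∈ S
      rw [Matrix.mulVec_mulVec, ← pow_succ']
      rcases lt_or_ge ((l : ℕ) + 1) k with h | h
      · exact Submodule.subset_span ⟨⟨_, h⟩, rfl⟩
      · rw [show (l : ℕ) + 1 = k by omega]; exact hmem'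
    set f : Module.End F S := T.restrict hmaps with hf
    have hfpow : ∀ (j : ℕ) (v : S), ((f ^ j) v : Fin b → F) = (T ^ j) v := by
      intro j
      induction j with
      | zero => simp
      | succ j ihj =>
        intro v
        rw [pow_succ', pow_succ', Module.End.mul_apply, Module.End.mul_apply, ← ihj]
        rfl
    let β := Module.finBasis F S
    set M0 := LinearMap.toMatrixAlgEquiv β f with hM0
    have hM0r : M0 ^ r = 1 := by
      rw [hM0, ← map_pow, show f ^ r = 1 from LinearMap.ext fun v => Subtype.ext (by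
        rw [hfpow, hT, ← map_pow, hM, map_one]; rfl), map_one]
    have hM01 : M0 ≠ 1 := by
      intro h
      rw [hM0, ← map_one (LinearMap.toMatrixAlgEquiv β)] at h
      have := congrArg Subtype.val (LinearMap.congr_fun ((LinearMap.toMatrixAlgEquiv β).injective h) ⟨u, huS⟩)
      exact hu this
    have h1 := (le_rank_sub_one hq hrq hrF hM0r hM01).trans (Matrix.rank_le_card_width _)
    rw [Fintype.card_fin] at h1
    have h2 : Module.finrank F S ≤ k := (finrank_range_le_card _).trans (le_of_eq (Fintype.card_fin k))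
    omega

/-- If B has k + 1 independent iterates then A ⊗ B - 1 has rank at least a k. -/
theorem mul_le_rank_kronecker_sub {a b k : ℕ} (A : Matrix (Fin a) (Fin a) F) (B : Matrix (Fin b) (Fin b) F)
    {u : Fin b → F} (hu : LinearIndependent F (fun l : Fin (k + 1) => (B ^ (l : ℕ)) *ᵥ u)) :
    a * k ≤ (A ⊗ₖ B - 1).rank := by
  let w : ℕ → Fin b → F := fun l => (B ^ l) *ᵥ u
  let ι : (Fin k → Fin a → F) →ₗ[F] (Fin a × Fin b → F) :=
    { toFun := fun v ij => ∑ l : Fin k, v l ij.1 * w l ij.2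
      map_add' := fun x y => funext fun ij => by simp [add_mul, Finset.sum_add_distrib]
      map_smul' := fun c x => funext fun ij => by simp [Finset.mul_sum, mul_assoc] }
  have himg : ∀ v i j, ((A ⊗ₖ B - 1) *ᵥ ι v) (i, j) =
      ∑ l : Fin k, ((A *ᵥ v l) i * w ((l : ℕ) + 1) j - v l i * w l j) := by
    intro v i j
    rw [Matrix.sub_mulVec, Matrix.one_mulVec, Pi.sub_apply, Finset.sum_sub_distrib]
    congr 1
    simp only [Matrix.mulVec, dotProduct, Matrix.kroneckerMap_apply, ι, LinearMap.coe_mk, AddHom.coe_mk,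
      Finset.mul_sum]
    rw [Finset.sum_comm]
    refine Finset.sum_congr rfl fun l _ => ?_
    rw [Fintype.sum_prod_type]
    have hw : w ((l : ℕ) + 1) j = ∑ y, B j y * w l y := by
      simp only [w, pow_succ', ← Matrix.mulVec_mulVec]
      rfl
    rw [hw, Finset.sum_mul_sum]
    exact Finset.sum_congr rfl fun x _ => Finset.sum_congr rfl fun y _ => by ring
  have hker : Function.Injective ((A ⊗ₖ B - 1).mulVecLin ∘ₗ ι) := by
    rw [← LinearMap.ker_eq_bot, LinearMap.ker_eq_bot']
    intro v hv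
    have hcoef : ∀ i, ∀ m : Fin (k + 1),
        (Fin.cases (0 : F) (fun l : Fin k => (A *ᵥ v l) i) m : F) -
          (Fin.lastCases (0 : F) (fun l : Fin k => v l i) m : F) = 0 := by
      intro i
      refine Fintype.linearIndependent_iff.1 hu _ ?_
      funext j
      have := congrFun hv (i, j)
      rw [LinearMap.comp_apply, Matrix.mulVecLin_apply, himg, Pi.zero_apply, Finset.sum_sub_distrib] at this
      rw [Finset.sum_apply, Pi.zero_apply]
      simp only [Pi.smul_apply, smul_eq_mul, sub_mul, Finset.sum_sub_distrib]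
      rw [Fin.sum_univ_succ, Fin.sum_univ_castSucc (f := fun m : Fin (k + 1) =>
        (Fin.lastCases (0 : F) (fun l : Fin k => v l i) m : F) * ((B ^ (m : ℕ)) *ᵥ u) j)]
      simp only [Fin.cases_zero, Fin.cases_succ, Fin.lastCases_last, Fin.lastCases_castSucc, zero_mul, add_zero,
        zero_add, Fin.val_succ, Fin.val_castSucc]
      exact this
    have hz : ∀ (l : ℕ) (hl : l < k), v ⟨l, hl⟩ = 0 := by
      intro l
      induction l with
      | zero =>
        intro hl
        funext i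
        have := hcoef i (Fin.castSucc ⟨0, hl⟩)
        rw [Fin.lastCases_castSucc, show Fin.castSucc (⟨0, hl⟩ : Fin k) = (0 : Fin (k + 1)) from rfl, Fin.cases_zero,
          zero_sub, neg_eq_zero] at this
        exact this
      | succ l ih =>
        intro hl
        funext i
        have := hcoef i (Fin.castSucc ⟨l + 1, hl⟩)
        rw [Fin.lastCases_castSucc, show Fin.castSucc (⟨l + 1, hl⟩ : Fin k) = Fin.succ (⟨l, by omega⟩ : Fin k) from rfl,
          Fin.cases_succ, ih (by omega), Matrix.mulVec_zero, Pi.zero_apply, zero_sub, neg_eq_zero] at this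
        exact this
    exact funext fun l => hz l.1 l.2
  calc a * k = Module.finrank F (LinearMap.range ((A ⊗ₖ B - 1).mulVecLin ∘ₗ ι)) := by
        rw [LinearMap.finrank_range_of_inj hker, Module.finrank_pi_fintype]
        simp [mul_comm]
    _ ≤ _ := Submodule.finrank_mono (LinearMap.range_comp_le_range _ _)

theorem rank_kronecker_one {a b : ℕ} (N : Matrix (Fin a) (Fin a) F) :
    (N ⊗ₖ (1 : Matrix (Fin b) (Fin b) F)).rank = b * N.rank := by
  rw [← rank_one_kronecker (a := b) N, ← Matrix.rank_reindex (Equiv.prodComm (Fin a) (Fin b)) (Equiv.prodComm _ _)]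
  congr 1
  ext ⟨i, j⟩ ⟨i', j'⟩
  simp [Matrix.kroneckerMap_apply, mul_comm]

/-- An isometry of odd prime order of a symmetric form moves a space of even dimension. -/
theorem even_rank_sub_one {b r : ℕ} (hr : Odd r) (h2 : (2 : F) ≠ 0) (hrF : (r : F) ≠ 0)
    {G B : Matrix (Fin b) (Fin b) F} (hG : IsUnit G) (hGt : Gᵀ = G) (hB : Bᵀ * G * B = G) (hBr : B ^ r = 1) :
    Even (B - 1).rank := by
  by_contra hodd
  set N := B - 1 with hN
  set U := LinearMap.range N.mulVecLin with hU
  set k := Module.finrank F U with hk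
  have hnil : ∀ v, N *ᵥ (N *ᵥ v) = 0 → N *ᵥ v = 0 := by
    intro v hv
    have hpow : ∀ j : ℕ, (B ^ j) *ᵥ v = v + (j : F) • (N *ᵥ v) := by
      intro j
      induction j with
      | zero => simp
      | succ j ih =>
        rw [pow_succ', ← Matrix.mulVec_mulVec, ih, show B = 1 + N by rw [hN]; abel]
        simp only [Matrix.add_mulVec, Matrix.one_mulVec, Matrix.mulVec_add, Matrix.mulVec_smul, hv,
          add_zero, Nat.cast_succ, add_smul, one_smul]
        abel
    have := hpow r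
    rw [hBr, Matrix.one_mulVec, left_eq_add, smul_eq_zero] at this
    exact this.resolve_left hrF
  have hcompl : IsCompl U (LinearMap.ker N.mulVecLin) := by
    have hd : Disjoint U (LinearMap.ker N.mulVecLin) := by
      rw [Submodule.disjoint_def]
      rintro _ ⟨v, rfl⟩ hker
      exact hnil v hker
    refine ⟨hd, codisjoint_iff.2 (Submodule.eq_top_of_finrank_eq ?_)⟩
    have h1 := Submodule.finrank_sup_add_finrank_inf_eq U (LinearMap.ker N.mulVecLin)
    rw [disjoint_iff.1 hd, finrank_bot, LinearMap.finrank_range_add_finrank_ker] at h1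
    omega
  have horth : ∀ x ∈ U, ∀ w ∈ LinearMap.ker N.mulVecLin, x ⬝ᵥ (G *ᵥ w) = 0 := by
    rintro _ ⟨v, rfl⟩ w hw
    have hw' : B *ᵥ w = w := by
      simpa [hN, Matrix.sub_mulVec, sub_eq_zero] using hw
    have h1 : (B *ᵥ v) ⬝ᵥ (G *ᵥ (B *ᵥ w)) = v ⬝ᵥ (G *ᵥ w) := by
      conv_rhs => rw [← hB]
      rw [← Matrix.mulVec_mulVec, ← Matrix.mulVec_mulVec, Matrix.dotProduct_mulVec v Bᵀ, Matrix.vecMul_transpose]
    rw [hw'] at h1
    simp [hN, sub_dotProduct, h1]
  let β := Module.finBasis F U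
  let S : Matrix (Fin b) (Fin k) F := fun x j => (β j : Fin b → F) x
  have hSv : ∀ c : Fin k → F, S *ᵥ c = ((∑ j, c j • β j : U) : Fin b → F) := by
    intro c
    funext x
    simp [S, Matrix.mulVec, dotProduct, mul_comm, Finset.sum_apply]
  have hSinj : ∀ c : Fin k → F, S *ᵥ c = 0 → c = 0 := fun c hc =>
    funext (Fintype.linearIndependent_iff.1 β.linearIndependent c (Subtype.ext ((hSv c).symm.trans hc)))
  have hSmem : ∀ c, S *ᵥ c ∈ U := fun c => (hSv c).symm ▸ Submodule.coe_mem _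
  have hmaps : ∀ j, B *ᵥ (β j : Fin b → F) ∈ U := by
    intro j
    obtain ⟨v, hv⟩ := (β j).2
    refine ⟨B *ᵥ v, ?_⟩
    rw [← hv, Matrix.mulVecLin_apply, Matrix.mulVecLin_apply, Matrix.mulVec_mulVec, Matrix.mulVec_mulVec, hN,
      sub_mul, mul_sub, one_mul, mul_one]
  let B' : Matrix (Fin k) (Fin k) F := fun l j => β.repr ⟨_, hmaps j⟩ l
  have hBS : B * S = S * B' := by
    ext x j
    have := congrArg (fun z : U => (z : Fin b → F) x) (β.sum_repr ⟨_, hmaps j⟩)
    simp only [Submodule.coe_sum, Submodule.coe_smul, Finset.sum_apply, Pi.smul_apply, smul_eq_mul] at this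
    rw [Matrix.mul_apply, Matrix.mul_apply]
    refine Eq.trans ?_ (this.symm.trans (Finset.sum_congr rfl fun l _ => mul_comm _ _))
    rfl
  set G' := Sᵀ * G * S with hG'
  have hG'inj : ∀ c, G' *ᵥ c = 0 → c = 0 := by
    intro c hc
    apply hSinj
    have h0 : ∀ z, z ⬝ᵥ (G *ᵥ (S *ᵥ c)) = 0 := by
      intro z
      obtain ⟨x, hx, w, hw, rfl⟩ := Submodule.mem_sup.1 (hcompl.sup_eq_top.symm ▸ Submodule.mem_top (x := z))
      rw [add_dotProduct]
      have h1 : w ⬝ᵥ (G *ᵥ (S *ᵥ c)) = 0 := by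
        have := horth _ (hSmem c) w hw
        rw [Matrix.dotProduct_mulVec, ← Matrix.mulVec_transpose, hGt, dotProduct_comm] at this
        exact this
      have h2 : x ⬝ᵥ (G *ᵥ (S *ᵥ c)) = 0 := by
        have hx' : x = S *ᵥ fun j => β.repr ⟨x, hx⟩ j := by
          rw [hSv, β.sum_repr]
        rw [hx', ← Matrix.vecMul_transpose, ← Matrix.dotProduct_mulVec, Matrix.mulVec_mulVec, Matrix.mulVec_mulVec,
          ← hG', hc, dotProduct_zero]
      rw [h1, h2, add_zero]
    have h1 : G *ᵥ (S *ᵥ c) = 0 := dotProduct_eq_zero _ (fun z => by rw [dotProduct_comm]; exact h0 z)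
    exact Matrix.mulVec_injective_iff_isUnit.2 hG (h1.trans (Matrix.mulVec_zero G).symm)
  have hG'u : IsUnit G'.det := (Matrix.isUnit_iff_isUnit_det _).1 (Matrix.mulVec_injective_iff_isUnit.1 fun x y h =>
    sub_eq_zero.1 (hG'inj _ (by rw [Matrix.mulVec_sub, h, sub_self])))
  have hB' : B'ᵀ * G' * B' = G' := by
    calc B'ᵀ * G' * B' = (S * B')ᵀ * G * (S * B') := by rw [Matrix.transpose_mul, hG']; simp only [Matrix.mul_assoc]
      _ = Sᵀ * (Bᵀ * G * B) * S := by rw [← hBS, Matrix.transpose_mul]; simp only [Matrix.mul_assoc]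
      _ = G' := by rw [hB]
  have hB'r : B' ^ r = 1 := by
    have hp : ∀ j : ℕ, B ^ j * S = S * B' ^ j := by
      intro j
      induction j with
      | zero => simp
      | succ j ih => rw [pow_succ', Matrix.mul_assoc, ih, ← Matrix.mul_assoc, hBS, Matrix.mul_assoc, ← pow_succ']
    refine Matrix.ext_iff_mulVec.2 fun c => sub_eq_zero.1 (hSinj _ ?_)
    rw [Matrix.mulVec_sub, Matrix.mulVec_mulVec, Matrix.mulVec_mulVec, ← hp, hBr, Matrix.one_mul, Matrix.mul_one,
      sub_self]
  have hdet1 : B'.det = 1 := by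
    have h := congrArg Matrix.det hB'
    rw [Matrix.det_mul, Matrix.det_mul, Matrix.det_transpose, mul_comm B'.det, mul_assoc] at h
    have hsq : B'.det * B'.det = 1 := mul_left_cancel₀ hG'u.ne_zero (by rw [h, mul_one])
    have hr1 : B'.det ^ r = 1 := by rw [← Matrix.det_pow, hB'r, Matrix.det_one]
    obtain ⟨s, rfl⟩ := hr
    rwa [pow_succ, pow_mul, sq, hsq, one_pow, one_mul] at hr1
  have hkodd : Odd k := Nat.not_even_iff_odd.1 hodd
  have key : (B' - 1).det = 0 := by
    have h1 : (B' - 1)ᵀ * G' * B' = -(G' * (B' - 1)) := by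
      rw [Matrix.transpose_sub, Matrix.transpose_one, Matrix.sub_mul, Matrix.sub_mul, Matrix.one_mul, hB',
        Matrix.mul_sub, Matrix.mul_one, neg_sub]
    have h := congrArg Matrix.det h1
    rw [Matrix.det_mul, Matrix.det_mul, Matrix.det_transpose, hdet1, mul_one, Matrix.det_neg, Fintype.card_fin,
      hkodd.neg_one_pow, Matrix.det_mul] at h
    have : (2 : F) * (G'.det * (B' - 1).det) = 0 := by linear_combination h
    exact (mul_eq_zero.1 ((mul_eq_zero.1 this).resolve_left h2)).resolve_left hG'u.ne_zero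
  obtain ⟨c, hc0, hc⟩ := Matrix.exists_mulVec_eq_zero_iff.2 key
  refine hc0 (hSinj c ?_)
  obtain ⟨v, hv⟩ := hSmem c
  rw [← hv]
  refine hnil v ?_
  rw [show N *ᵥ v = S *ᵥ c from hv, hN, Matrix.sub_mulVec, Matrix.mulVec_mulVec, hBS, ← Matrix.mulVec_mulVec,
    Matrix.one_mulVec, ← Matrix.mulVec_sub, show B' *ᵥ c - c = (B' - 1) *ᵥ c by
      rw [Matrix.sub_mulVec, Matrix.one_mulVec], hc, Matrix.mulVec_zero]

/-- Embedding of Sp_{2e} in Sp_{2d}: an element of order r moving at most 2e dimensions. -/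
theorem exists_small_sp [Fintype F] {d e r q : ℕ} [hr : Fact r.Prime] (hq : Fintype.card F = q) (he : 1 ≤ e)
    (hed : e ≤ d) (hre : r ∣ q ^ (2 * e) - 1) :
    ∃ x : GL (Fin d ⊕ Fin d) F, x ∈ Cfsg.spGL d F ∧ (x : Matrix (Fin d ⊕ Fin d) (Fin d ⊕ Fin d) F) ^ r = 1 ∧
      (x : Matrix (Fin d ⊕ Fin d) (Fin d ⊕ Fin d) F) ≠ 1 ∧
      ((x : Matrix (Fin d ⊕ Fin d) (Fin d ⊕ Fin d) F) - 1).rank ≤ 2 * e := by
  classical
  have hcard : r ∣ Nat.card (Matrix.symplecticGroup (Fin e) F) := by
    rw [Symplectic.card_sp, hq]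
    refine dvd_mul_of_dvd_right (dvd_trans ?_ (Finset.dvd_prod_of_mem _
      (Finset.mem_range.2 (show e - 1 < e by omega)))) _
    rwa [Nat.sub_add_cancel he]
  obtain ⟨y, hy⟩ := exists_prime_orderOf_dvd_card' r hcard
  set Y : Matrix (Fin e ⊕ Fin e) (Fin e ⊕ Fin e) F := (y : Matrix (Fin e ⊕ Fin e) (Fin e ⊕ Fin e) F) with hY
  have hYr : Y ^ r = 1 := by rw [hY, ← SubmonoidClass.coe_pow, ← hy, pow_orderOf_eq_one]; rfl
  have hY1 : Y ≠ 1 := fun h => by
    rw [show y = 1 from Subtype.ext h, orderOf_one] at hy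
    exact hr.out.ne_one hy.symm
  let E : Fin e ⊕ Fin e → Fin d ⊕ Fin d := Sum.map (Fin.castLE hed) (Fin.castLE hed)
  have hE : Function.Injective E := (Fin.castLE_injective hed).sumMap (Fin.castLE_injective hed)
  let π : Matrix (Fin e ⊕ Fin e) (Fin d ⊕ Fin d) F := Matrix.of fun s t => if E s = t then 1 else 0
  have hππ : π * πᵀ = 1 := by
    ext s t
    simp [π, Matrix.mul_apply, Matrix.one_apply, hE.eq_iff, Finset.sum_ite_eq, eq_comm]
  set N : Matrix (Fin d ⊕ Fin d) (Fin d ⊕ Fin d) F := πᵀ * (Y - 1) * π with hN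
  set X := 1 + N with hX
  have hXp : ∀ k : ℕ, X ^ k = 1 + πᵀ * (Y ^ k - 1) * π := by
    intro k
    induction k with
    | zero => simp
    | succ k ih =>
      rw [pow_succ, ih, hX, hN, add_mul, mul_add, mul_add, one_mul, one_mul, mul_one, pow_succ]
      rw [show πᵀ * (Y ^ k - 1) * π * (πᵀ * (Y - 1) * π) = πᵀ * ((Y ^ k - 1) * ((π * πᵀ) * (Y - 1))) * π by
        simp only [Matrix.mul_assoc], hππ, Matrix.one_mul]
      rw [show (Y ^ k * Y - 1 : Matrix _ _ F) = (Y - 1) + ((Y ^ k - 1) + (Y ^ k - 1) * (Y - 1)) by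
        rw [Matrix.sub_mul, Matrix.mul_sub, Matrix.mul_one, Matrix.one_mul]; abel]
      simp only [Matrix.mul_add, Matrix.add_mul]
      abel
  have hXr : X ^ r = 1 := by rw [hXp, hYr, sub_self, Matrix.mul_zero, Matrix.zero_mul, add_zero]
  let x : GL (Fin d ⊕ Fin d) F := (IsUnit.of_pow_eq_one hXr hr.out.ne_zero).unit
  have hπv : ∀ (v : Fin d ⊕ Fin d → F) s, (π *ᵥ v) s = v (E s) := fun v s => by
    simp [π, Matrix.mulVec, dotProduct, ite_mul]
  have hleft : ∀ (z : Fin e ⊕ Fin e → F) (v : Fin d ⊕ Fin d → F),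
      Cfsg.sympForm d F (πᵀ *ᵥ z) v = Cfsg.sympForm e F z (π *ᵥ v) := by
    intro z v
    have h1 : ∀ s, (πᵀ *ᵥ z) (E s) = z s := fun s => by
      simp [π, Matrix.mulVec, dotProduct, ite_mul, hE.eq_iff]
    have h0 : ∀ t, t ∉ Set.range E → (πᵀ *ᵥ z) t = 0 := fun t ht => by
      simp only [π, Matrix.mulVec, dotProduct, Matrix.transpose_apply, Matrix.of_apply, ite_mul, zero_mul]
      exact Finset.sum_eq_zero fun s _ => if_neg fun h => ht ⟨s, h⟩
    have hout : ∀ i, i ∉ Set.range (Fin.castLE hed) →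
        (Sum.inl i : Fin d ⊕ Fin d) ∉ Set.range E ∧ (Sum.inr i : Fin d ⊕ Fin d) ∉ Set.range E := by
      intro i hi
      constructor <;> rintro ⟨s | s, hs⟩ <;> simp [E] at hs <;> exact hi ⟨s, hs⟩
    rw [Symplectic.sympForm_eq, Symplectic.sympForm_eq]
    refine (Fintype.sum_of_injective (Fin.castLE hed) (Fin.castLE_injective hed) _ _ (fun i hi => ?_) (fun s => ?_)).symm
    · rw [h0 _ (hout i hi).1, h0 _ (hout i hi).2, zero_mul, zero_mul, sub_zero]
    · rw [hπv, hπv, show (Sum.inl (Fin.castLE hed s) : Fin d ⊕ Fin d) = E (Sum.inl s) from rfl,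
        show (Sum.inr (Fin.castLE hed s) : Fin d ⊕ Fin d) = E (Sum.inr s) from rfl, h1, h1]
  have hxX : (x : Matrix (Fin d ⊕ Fin d) (Fin d ⊕ Fin d) F) = X := rfl
  refine ⟨x, fun u v => ?_, hXr, fun h => hY1 ?_, ?_⟩
  · show Cfsg.sympForm d F (X *ᵥ u) (X *ᵥ v) = Cfsg.sympForm d F u v
    have hsymp : ∀ a b, Cfsg.sympForm e F (Y *ᵥ a) (Y *ᵥ b) = Cfsg.sympForm e F a b :=
      (Symplectic.mem_symplectic_iff_form Y).1 y.2
    have hd' : ∀ a b, Cfsg.sympForm d F a b = Symplectic.spB d F a b := fun a b => (Symplectic.spB_apply a b).symm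
    have he' : ∀ a b, Cfsg.sympForm e F a b = Symplectic.spB e F a b := fun a b => (Symplectic.spB_apply a b).symm
    have hsw : ∀ a b, Cfsg.sympForm d F a b = - Cfsg.sympForm d F b a := fun a b => by
      rw [hd', hd']; exact Symplectic.alt_swap (Symplectic.spB_alt d F) a b
    have hswe : ∀ a b, Cfsg.sympForm e F a b = - Cfsg.sympForm e F b a := fun a b => by
      rw [he', he']; exact Symplectic.alt_swap (Symplectic.spB_alt e F) a b
    have hNu : ∀ w, N *ᵥ w = πᵀ *ᵥ ((Y - 1) *ᵥ (π *ᵥ w)) := fun w => by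
      simp only [hN, Matrix.mulVec_mulVec, Matrix.mul_assoc]
    have hright : ∀ (a : Fin d ⊕ Fin d → F) z, Cfsg.sympForm d F a (πᵀ *ᵥ z) = Cfsg.sympForm e F (π *ᵥ a) z :=
      fun a z => by rw [hsw, hleft, hswe, neg_neg]
    rw [hX, Matrix.add_mulVec, Matrix.add_mulVec, Matrix.one_mulVec, Matrix.one_mulVec, hd', map_add, map_add,
      LinearMap.add_apply, LinearMap.add_apply, ← hd', ← hd', ← hd', ← hd', hNu u, hNu v, hright, hleft, hleft,
      Matrix.mulVec_mulVec _ π πᵀ, hππ, Matrix.one_mulVec]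
    set a := π *ᵥ u
    set b := π *ᵥ v
    have h1 := hsymp a b
    have e1 : ∀ a : Fin e ⊕ Fin e → F, (Y - 1) *ᵥ a = Y *ᵥ a - a := fun a => by
      rw [Matrix.sub_mulVec, Matrix.one_mulVec]
    rw [e1, e1]
    simp only [he', map_sub, LinearMap.sub_apply] at h1 ⊢
    linear_combination h1
  · rw [hxX, hX, add_eq_left, hN] at h
    have h2 : π * (πᵀ * (Y - 1) * π) * πᵀ = 0 := by rw [h, Matrix.mul_zero, Matrix.zero_mul]
    rw [show π * (πᵀ * (Y - 1) * π) * πᵀ = (π * πᵀ) * (Y - 1) * (π * πᵀ) by simp only [Matrix.mul_assoc], hππ,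
      Matrix.one_mul, Matrix.mul_one, sub_eq_zero] at h2
    exact h2
  · rw [hxX, hX, add_sub_cancel_left, hN]
    exact (Matrix.rank_mul_le_left _ _).trans ((Matrix.rank_mul_le_left _ _).trans
      ((Matrix.rank_le_card_width _).trans (le_of_eq (by simp [two_mul]))))

end Cfsg.Agent.H98.PrimeElem
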