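import Cfsg.Prelude.Def_GeometricClasses

/-!
Matrices with scalar square: conjugation into a tensor product subgroup of type GL_2 ⊗ GL_b.
-/

set_option autoImplicit false

namespace Cfsg.Agent.H98.PrimeElem

open Matrix Module
open scoped Kronecker

variable {F : Type*} [Field F]

/-- A non-square scalar square: a basis (w_j, x w_j). -/
theorem exists_basis_nonsquare [Finite F] {n b : ℕ} (hn : n = 2 * b) {T : Module.End F (Fin n → F)} {c : F}
    (hT : ∀ v, T (T v) = c • v) (hc : ¬ IsSquare c) :
    ∃ w : Fin b → Fin n → F, LinearIndependent F (fun k : Fin 2 × Fin b => ![w k.2, T (w k.2)] k.1) := by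
  classical
  obtain ⟨W, hW, hmax⟩ := Set.exists_max_image {W : Submodule F (Fin n → F) | Disjoint W (W.map T)}
    (fun W => finrank F W) (Set.toFinite _) ⟨⊥, disjoint_bot_left⟩
  have hc0 : c ≠ 0 := fun h => hc ⟨0, by simp [h]⟩
  have hTinj : Function.Injective T := fun u v h => by
    have := congrArg T h
    rw [hT, hT] at this
    exact smul_right_injective _ hc0 this
  have htop : W ⊔ W.map T = ⊤ := by
    rw [Submodule.eq_top_iff']
    intro v
    by_contra hv
    have hinv : ∀ u ∈ W ⊔ W.map T, T u ∈ W ⊔ W.map T := by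
      intro u hu
      obtain ⟨s, hs, _, ⟨t, ht, rfl⟩, rfl⟩ := Submodule.mem_sup.1 hu
      rw [map_add, hT]
      exact add_mem (Submodule.mem_sup_right ⟨s, hs, rfl⟩) (Submodule.mem_sup_left (W.smul_mem _ ht))
    have hd : Disjoint (W ⊔ Submodule.span F {v}) ((W ⊔ Submodule.span F {v}).map T) := by
      rw [Submodule.disjoint_def]
      rintro u hu ⟨u', hu', rfl⟩
      obtain ⟨s, hs, _, hs', hsu⟩ := Submodule.mem_sup.1 hu
      obtain ⟨t, ht, _, ht', rfl⟩ := Submodule.mem_sup.1 hu'
      obtain ⟨al, rfl⟩ := Submodule.mem_span_singleton.1 hs'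
      obtain ⟨be, rfl⟩ := Submodule.mem_span_singleton.1 ht'
      have h1 : al • v - be • T v ∈ W ⊔ W.map T := by
        have : al • v - be • T v = T t - s := by
          rw [map_add, map_smul] at hsu
          linear_combination (norm := module) hsu
        rw [this]
        exact sub_mem (Submodule.mem_sup_right ⟨t, ht, rfl⟩) (Submodule.mem_sup_left hs)
      have h2 : (al * al - c * (be * be)) • v ∈ W ⊔ W.map T := by
        have := add_mem (Submodule.smul_mem _ al h1) (Submodule.smul_mem _ be (hinv _ h1))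
        rw [map_sub, map_smul, map_smul, hT] at this
        convert this using 1
        module
      by_cases h0 : al * al - c * (be * be) = 0
      · have hbe : be = 0 := by
          by_contra hbe
          exact hc ⟨al / be, by field_simp; linear_combination -h0⟩
        subst hbe
        have hal : al = 0 := by simpa using h0
        subst hal
        simp only [zero_smul, add_zero] at hsu ⊢
        exact Submodule.disjoint_def.1 hW _ (hsu ▸ hs) ⟨t, ht, rfl⟩
      · exact absurd ((Submodule.smul_mem_iff _ h0).1 h2) hv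
    have hlt : W < W ⊔ Submodule.span F {v} := lt_of_le_of_ne le_sup_left fun h => by
      refine hv (Submodule.mem_sup_left ?_)
      rw [h]
      exact Submodule.mem_sup_right (Submodule.mem_span_singleton_self v)
    exact absurd (hmax _ hd) (not_le.2 (Submodule.finrank_lt_finrank_of_lt hlt))
  have hdim : finrank F W = b := by
    have h := Submodule.finrank_sup_add_finrank_inf_eq W (W.map T)
    rw [htop, disjoint_iff.1 hW, finrank_top, Module.finrank_fin_fun, finrank_bot,
      ← (Submodule.equivMapOfInjective T hTinj W).finrank_eq] at h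
    omega
  let β := Module.finBasisOfFinrankEq F W hdim
  refine ⟨fun j => (β j : Fin n → F), Fintype.linearIndependent_iff.2 fun g hg k => ?_⟩
  rw [Fintype.sum_prod_type, Fin.sum_univ_two] at hg
  simp only [Matrix.cons_val_zero, Matrix.cons_val_one] at hg
  have hg' : (∑ j, g (0, j) • (β j : Fin n → F)) = -(T (∑ j, g (1, j) • (β j : Fin n → F))) := by
    rw [map_sum, eq_neg_iff_add_eq_zero]
    simpa [map_smul] using hg
  have hm : ∀ i : Fin 2, ∑ j, g (i, j) • (β j : Fin n → F) ∈ W := fun i =>
    sum_mem fun j _ => W.smul_mem _ (β j).2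
  have h0 := Submodule.disjoint_def.1 hW _ (hm 0) (hg' ▸ neg_mem ⟨_, hm 1, rfl⟩)
  have h1 : ∑ j, g (1, j) • (β j : Fin n → F) = 0 := by
    rw [h0, eq_comm, neg_eq_zero] at hg'
    exact hTinj (by rw [hg', map_zero])
  have hz : ∀ i : Fin 2, ∑ j, g (i, j) • (β j : Fin n → F) = 0 := Fin.forall_fin_two.2 ⟨h0, h1⟩
  exact Fintype.linearIndependent_iff.1 β.linearIndependent (fun j => g (k.1, j))
    (Subtype.ext (by simpa using hz k.1)) k.2

/-- The Kronecker product of two invertible matrices. -/
def kronUnit {a b : ℕ} (A : GL (Fin a) F) (B : GL (Fin b) F) : GL (Fin a × Fin b) F :=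
  ⟨A.val ⊗ₖ B.val, (A⁻¹).val ⊗ₖ (B⁻¹).val,
    by rw [← Matrix.mul_kronecker_mul, Units.mul_inv, Units.mul_inv, Matrix.one_kronecker_one],
    by rw [← Matrix.mul_kronecker_mul, Units.inv_mul, Units.inv_mul, Matrix.one_kronecker_one]⟩

/-- Conjugate into the tensor subgroup by a special linear matrix, given a model and a centralising element of
arbitrary determinant. -/
theorem exists_conj_mem {n a b : ℕ} (e : Fin n ≃ Fin a × Fin b) (P x : GL (Fin n) F)
    (S : GL (Fin n) F) (A : GL (Fin a) F) (B : GL (Fin b) F)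
    (hS : (x : Matrix (Fin n) (Fin n) F) * S.val = S.val * Matrix.reindexAlgEquiv F F e.symm (A.val ⊗ₖ B.val))
    (hz : ∀ δ : Fˣ, ∃ Z : Matrix (Fin a × Fin b) (Fin a × Fin b) F,
      Z * (A.val ⊗ₖ B.val) = (A.val ⊗ₖ B.val) * Z ∧ Z.det = δ) :
    ∃ g ∈ Cfsg.Geo.specialLinear (Fin n) F, g⁻¹ * x * g ∈ Cfsg.Geo.tensorProductSubgroup a b e P := by
  let K : GL (Fin a × Fin b) F := kronUnit A B
  obtain ⟨Z, hZ, hdet⟩ := hz (Matrix.GeneralLinearGroup.det (S * P⁻¹))⁻¹
  let z : GL (Fin a × Fin b) F := Matrix.GeneralLinearGroup.mk'' Z (by rw [hdet]; exact Units.isUnit _)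
  refine ⟨S * Cfsg.Geo.glReindex e.symm z * P⁻¹, MonoidHom.mem_ker.2 ?_, ?_⟩
  · have : Matrix.GeneralLinearGroup.det (Cfsg.Geo.glReindex e.symm z) =
        (Matrix.GeneralLinearGroup.det (S * P⁻¹))⁻¹ := Units.ext (by
      show Matrix.det (Matrix.reindexAlgEquiv F F e.symm Z) = _
      rw [Matrix.det_reindexAlgEquiv, hdet])
    rw [map_mul, map_mul, this, map_mul, mul_right_comm, mul_inv_cancel]
  · refine ⟨Cfsg.Geo.glReindex e.symm K, ⟨K, ⟨A, B, rfl⟩, rfl⟩, ?_⟩
    have hcomm : K * z = z * K := Units.ext hZ.symm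
    have hx : x * S = S * Cfsg.Geo.glReindex e.symm K := Units.ext hS
    have hx' : x = S * Cfsg.Geo.glReindex e.symm K * S⁻¹ := by rw [← hx]; group
    simp only [MulEquiv.coe_toMonoidHom, MulAut.conj_apply]
    have h2 : (Cfsg.Geo.glReindex e.symm z)⁻¹ * Cfsg.Geo.glReindex e.symm K * Cfsg.Geo.glReindex e.symm z =
        Cfsg.Geo.glReindex e.symm K := by
      rw [mul_assoc, ← map_mul, hcomm, map_mul, inv_mul_cancel_left]
    rw [hx']
    conv_lhs => rw [← h2]
    group

end Cfsg.Agent.H98.PrimeElem
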