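import Cfsg.Agent.H98.PrimeElem.SpTensor
import Cfsg.Agent.H98.PrimeElem.Square

/-!
Conjugates inside a symplectic-orthogonal tensor product subgroup.
-/

set_option autoImplicit false

namespace Cfsg.Agent.H98.PrimeElem

open Matrix Module
open scoped Kronecker

variable {F : Type*} [Field F] {ι : Type} [Fintype ι] [DecidableEq ι] {a b : ℕ}

theorem exists_kron_of_mem {e : ι ≃ Fin a × Fin b} {P y : GL ι F}
    (h : y ∈ Cfsg.Geo.tensorProductSubgroup a b e P) :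
    ∃ (A : GL (Fin a) F) (B : GL (Fin b) F), (y : Matrix ι ι F) =
      P.val * Matrix.reindexAlgEquiv F F e.symm (A.val ⊗ₖ B.val) * (P⁻¹).val := by
  obtain ⟨_, ⟨K, ⟨A, B, hK⟩, rfl⟩, rfl⟩ := h
  refine ⟨A, B, ?_⟩
  simp only [MulEquiv.coe_toMonoidHom, MulAut.conj_apply, Units.val_mul]
  rw [← hK]
  rfl

theorem conjP_mulVec {e : ι ≃ Fin a × Fin b} (P : GL ι F) (K : Matrix (Fin a × Fin b) (Fin a × Fin b) F)
    (w : Fin a × Fin b → F) :
    (P.val * Matrix.reindexAlgEquiv F F e.symm K * (P⁻¹).val) *ᵥ (P.val *ᵥ (w ∘ e)) =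
      P.val *ᵥ ((K *ᵥ w) ∘ e) := by
  rw [Matrix.mulVec_mulVec, Matrix.mul_assoc, Units.inv_mul, Matrix.mul_one, ← Matrix.mulVec_mulVec]
  congr 1
  rw [Matrix.coe_reindexAlgEquiv, Matrix.reindex_apply, Matrix.submatrix_mulVec_equiv]
  congr 2
  funext t
  simp

theorem rank_conjP {e : ι ≃ Fin a × Fin b} (P g : GL ι F) {x : GL ι F}
    {K : Matrix (Fin a × Fin b) (Fin a × Fin b) F}
    (hx : ((g⁻¹ * x * g : GL ι F) : Matrix ι ι F) = P.val * Matrix.reindexAlgEquiv F F e.symm K * (P⁻¹).val) (l : F) :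
    ((x : Matrix ι ι F) - l • 1).rank = (K - l • 1).rank := by
  have hx' : (x : Matrix ι ι F) = (g * P).val * Matrix.reindexAlgEquiv F F e.symm K * ((g * P)⁻¹).val := by
    rw [_root_.mul_inv_rev, Units.val_mul, Units.val_mul,
      show g.val * P.val * Matrix.reindexAlgEquiv F F e.symm K * ((P⁻¹).val * (g⁻¹).val) =
        g.val * (P.val * Matrix.reindexAlgEquiv F F e.symm K * (P⁻¹).val) * (g⁻¹).val by simp only [Matrix.mul_assoc],
      ← hx, ← Units.val_mul, ← Units.val_mul]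
    congr 1
    group
  have h1 : (x : Matrix ι ι F) - l • 1 =
      (g * P).val * Matrix.reindexAlgEquiv F F e.symm (K - l • 1) * ((g * P)⁻¹).val := by
    rw [map_sub, map_smul, map_one, Matrix.mul_sub, Matrix.sub_mul, ← hx', Matrix.mul_smul, Matrix.mul_one,
      Matrix.smul_mul, Units.mul_inv]
  rw [h1, Matrix.rank_mul_eq_left_of_isUnit_det _ _ ((Matrix.isUnit_iff_isUnit_det _).1 (Units.isUnit _)),
    Matrix.rank_mul_eq_right_of_isUnit_det _ _ ((Matrix.isUnit_iff_isUnit_det _).1 (Units.isUnit _)),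
    Matrix.coe_reindexAlgEquiv, Matrix.rank_reindex]

theorem dvd_rank_of_kron {A : Matrix (Fin a) (Fin a) F} {B : Matrix (Fin b) (Fin b) F} (hB : IsUnit B) {l₀ : F}
    (h : (A ⊗ₖ B - l₀ • 1).rank < b) (l : F) : a ∣ (A ⊗ₖ B - l • 1).rank := by
  obtain ⟨c, hc⟩ : ∃ c : F, A = c • 1 := by
    by_contra hA
    simp only [not_exists] at hA
    exact absurd (le_rank_kronecker_sub hA hB l₀) (not_le.2 h)
  have h2 : A ⊗ₖ B - l • 1 = (1 : Matrix (Fin a) (Fin a) F) ⊗ₖ (c • B - l • 1) := by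
    rw [hc, Matrix.smul_kronecker, ← Matrix.kronecker_smul, ← Matrix.one_kronecker_one (α := F),
      ← Matrix.kronecker_smul]
    ext ⟨i, j⟩ ⟨i', j'⟩
    simp [Matrix.kroneckerMap_apply, mul_sub]
  rw [h2, rank_one_kronecker]
  exact Dvd.intro _ rfl

/-- Normalise a Kronecker product with r-th power one. -/
theorem exists_normalised [Fintype F] {r q : ℕ} [hr : Fact r.Prime] (hq : Fintype.card F = q) (hns : ¬ r ∣ q - 1)
    (ha : 0 < a) (hb : 0 < b) {A : Matrix (Fin a) (Fin a) F} {B : Matrix (Fin b) (Fin b) F}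
    (h : (A ⊗ₖ B) ^ r = 1) :
    ∃ (d : F), d ≠ 0 ∧ (d • A) ^ r = 1 ∧ (d⁻¹ • B) ^ r = 1 ∧ A ⊗ₖ B = (d • A) ⊗ₖ (d⁻¹ • B) := by
  have hpow : ∀ k : ℕ, (A ⊗ₖ B) ^ k = (A ^ k) ⊗ₖ (B ^ k) := by
    intro k
    induction k with
    | zero => simp
    | succ k ih => rw [pow_succ, pow_succ, pow_succ, ih, Matrix.mul_kronecker_mul]
  rw [hpow] at h
  have : NeZero a := ⟨by omega⟩
  have : NeZero b := ⟨by omega⟩
  set c : F := (B ^ r) 0 0 with hc
  have hAr : ∀ i i', c * (A ^ r) i i' = (1 : Matrix (Fin a) (Fin a) F) i i' := by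
    intro i i'
    have := congrFun (congrFun h (i, 0)) (i', 0)
    rw [Matrix.kroneckerMap_apply] at this
    rw [hc, mul_comm, this]
    simp [Matrix.one_apply]
  have hc0 : c ≠ 0 := fun h0 => one_ne_zero (α := F) (by simpa [h0] using (hAr 0 0).symm)
  have hcop : (Nat.card Fˣ).Coprime r := by
    rw [Nat.card_units, Nat.card_eq_fintype_card, hq, Nat.coprime_comm, hr.out.coprime_iff_not_dvd]
    exact hns
  obtain ⟨d, hd⟩ : ∃ d : F, d ^ r = c := ⟨((powCoprime hcop).symm (Units.mk0 c hc0) : Fˣ),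
    congrArg Units.val ((powCoprime hcop).apply_symm_apply (Units.mk0 c hc0))⟩
  have hd0 : d ≠ 0 := fun h0 => hc0 (by rw [← hd, h0, zero_pow hr.out.ne_zero])
  have hA'r : (d • A) ^ r = 1 := by
    ext i i'
    rw [smul_pow, Matrix.smul_apply, smul_eq_mul, hd, hAr]
  refine ⟨d, hd0, hA'r, ?_, by rw [Matrix.smul_kronecker, Matrix.kronecker_smul, smul_smul, mul_inv_cancel₀ hd0,
    one_smul]⟩
  have h1 : (A ^ r) ⊗ₖ (B ^ r) = ((d • A) ^ r) ⊗ₖ ((d⁻¹ • B) ^ r) := by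
    rw [smul_pow, smul_pow, Matrix.smul_kronecker, Matrix.kronecker_smul, smul_smul, ← mul_pow, mul_inv_cancel₀ hd0,
      one_pow, one_smul]
  rw [hA'r, h] at h1
  ext j j'
  simpa [Matrix.one_apply] using (congrFun (congrFun h1 (0, j)) (0, j')).symm

theorem formOfGram_eq_dot {κ : Type} [Fintype κ] (G : Matrix κ κ F) (x y : κ → F) :
    Cfsg.Geo.formOfGram id G x y = x ⬝ᵥ (G *ᵥ y) := by
  simp only [Cfsg.Geo.formOfGram, id, dotProduct, Matrix.mulVec, Finset.mul_sum, mul_assoc]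

/-- An element of the tensor product subgroup preserving the form preserves the tensor Gram matrix. -/
theorem gram_preserved {d : ℕ} {e : (Fin d ⊕ Fin d) ≃ Fin a × Fin b} {P : GL (Fin d ⊕ Fin d) F}
    {f₁ : (Fin a → F) → (Fin a → F) → F} {f₂ : (Fin b → F) → (Fin b → F) → F}
    (hS : Cfsg.Geo.IsTensorFormStructure id (Cfsg.sympForm d F) f₁ f₂ e P)
    {K : Matrix (Fin a × Fin b) (Fin a × Fin b) F} :
    (∀ u v, Cfsg.sympForm d F ((P.val * Matrix.reindexAlgEquiv F F e.symm K * (P⁻¹).val) *ᵥ u)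
        ((P.val * Matrix.reindexAlgEquiv F F e.symm K * (P⁻¹).val) *ᵥ v) = Cfsg.sympForm d F u v) ↔
      Kᵀ * (Cfsg.Geo.gramMatrix f₁ ⊗ₖ Cfsg.Geo.gramMatrix f₂) * K =
        Cfsg.Geo.gramMatrix f₁ ⊗ₖ Cfsg.Geo.gramMatrix f₂ := by
  obtain ⟨c, hc, hf⟩ := hS
  set G := Cfsg.Geo.gramMatrix f₁ ⊗ₖ Cfsg.Geo.gramMatrix f₂ with hG
  have key : ∀ x y, (K *ᵥ x) ⬝ᵥ (G *ᵥ (K *ᵥ y)) = x ⬝ᵥ ((Kᵀ * G * K) *ᵥ y) := fun x y => by
    rw [← Matrix.mulVec_mulVec, ← Matrix.mulVec_mulVec, Matrix.dotProduct_mulVec x Kᵀ, Matrix.vecMul_transpose]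
  have hsurj : ∀ u : Fin d ⊕ Fin d → F, ∃ x : Fin a × Fin b → F, u = P.val *ᵥ (x ∘ e) := fun u =>
    ⟨((P⁻¹).val *ᵥ u) ∘ e.symm, by
      rw [show (((P⁻¹).val *ᵥ u) ∘ e.symm) ∘ e = (P⁻¹).val *ᵥ u from funext fun t => by simp,
        Matrix.mulVec_mulVec, Units.mul_inv, Matrix.one_mulVec]⟩
  constructor
  · intro h
    refine Matrix.ext_iff_mulVec.2 fun y => dotProduct_eq _ _ fun x => ?_
    have := h (P.val *ᵥ (x ∘ e)) (P.val *ᵥ (y ∘ e))
    rw [conjP_mulVec, conjP_mulVec, hf, hf, formOfGram_eq_dot, formOfGram_eq_dot, key] at this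
    rw [dotProduct_comm, dotProduct_comm _ x]
    exact mul_left_cancel₀ hc this
  · intro h u v
    obtain ⟨x, rfl⟩ := hsurj u
    obtain ⟨y, rfl⟩ := hsurj v
    rw [conjP_mulVec, conjP_mulVec, hf, hf, formOfGram_eq_dot, formOfGram_eq_dot, key, h]

/-- An element of odd prime order moving at most 2i dimensions, i = ord(q mod r) ≥ 2, is in no conjugate. -/
theorem not_kron_of_small [Fintype F] {r q e : ℕ} [hr : Fact r.Prime] (hq : Fintype.card F = q) (hrq : ¬ r ∣ q)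
    (hrF : (r : F) ≠ 0) (hr2 : r ≠ 2) (h2 : (2 : F) ≠ 0) (hi : 2 ≤ orderOf (q : ZMod r)) (he : 1 ≤ e)
    (hei : e ≤ orderOf (q : ZMod r)) (hiev : Even (orderOf (q : ZMod r)) → 2 * e = orderOf (q : ZMod r))
    (ha : Even a) (ha2 : 2 ≤ a) (hb : 3 ≤ b) (A : Matrix (Fin a) (Fin a) F) {B : Matrix (Fin b) (Fin b) F}
    (hB : IsUnit B) {G₁ : Matrix (Fin a) (Fin a) F} {G₂ : Matrix (Fin b) (Fin b) F} (hG₁ : G₁ ≠ 0)
    (hG₂ : IsUnit G₂) (hG₂t : G₂ᵀ = G₂) (hpres : (A ⊗ₖ B)ᵀ * (G₁ ⊗ₖ G₂) * (A ⊗ₖ B) = G₁ ⊗ₖ G₂)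
    (hpow : (A ⊗ₖ B) ^ r = 1) (hne : A ⊗ₖ B ≠ 1) : 2 * e < (A ⊗ₖ B - 1).rank := by
  set i := orderOf (q : ZMod r) with hidef
  have hns := not_dvd_card_units_of_two_le hq hi
  obtain ⟨d, hd0, hA, hB', hAB⟩ := exists_normalised hq hns (by omega) (by omega) hpow
  set A' := d • A
  set B' := d⁻¹ • B
  rw [hAB] at hpres hne ⊢
  by_cases hA1 : A' = 1
  · rw [hA1, ← Matrix.kroneckerMap_transpose, Matrix.transpose_one, ← Matrix.mul_kronecker_mul,
      ← Matrix.mul_kronecker_mul, Matrix.one_mul, Matrix.mul_one] at hpres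
    rw [hA1] at hne ⊢
    have hB1 : B' ≠ 1 := fun h => hne (by rw [h, Matrix.one_kronecker_one])
    have hge : i ≤ (B' - 1).rank := le_rank_sub_one hq hrq hrF hB' hB1
    rw [show (1 : Matrix (Fin a) (Fin a) F) ⊗ₖ B' - 1 = (1 : Matrix (Fin a) (Fin a) F) ⊗ₖ (B' - 1) by
      ext ⟨x, y⟩ ⟨x', y'⟩
      by_cases hx : x = x' <;> simp [Matrix.kroneckerMap_apply, Matrix.one_apply, hx], rank_one_kronecker]
    by_contra hle
    have hmul : 2 * (B' - 1).rank ≤ a * (B' - 1).rank := Nat.mul_le_mul_right _ ha2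
    have hiodd : Odd i := Nat.not_even_iff_odd.1 fun hev => by have := hiev hev; omega
    have hG : B'ᵀ * G₂ * B' = G₂ := by
      obtain ⟨x, y, hxy⟩ : ∃ x y, G₁ x y ≠ 0 := by
        by_contra h
        push Not at h
        exact hG₁ (Matrix.ext h)
      ext u v
      have := congrFun (congrFun hpres (x, u)) (y, v)
      rw [Matrix.kroneckerMap_apply, Matrix.kroneckerMap_apply] at this
      exact mul_left_cancel₀ hxy this
    have hev := even_rank_sub_one (hr.out.odd_of_ne_two hr2) h2 hrF hG₂ hG₂t hG hB'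
    rw [show (B' - 1).rank = i by omega] at hev
    exact Nat.not_even_iff_odd.2 hiodd hev
  · have hia : i ≤ a := (le_rank_sub_one hq hrq hrF hA hA1).trans
      ((Matrix.rank_le_card_width _).trans (le_of_eq (Fintype.card_fin a)))
    by_cases hB1 : B' = 1
    · rw [hB1, show A' ⊗ₖ (1 : Matrix (Fin b) (Fin b) F) - 1 = (A' - 1) ⊗ₖ (1 : Matrix (Fin b) (Fin b) F) by
        ext ⟨x, y⟩ ⟨x', y'⟩
        by_cases hy : y = y' <;> simp [Matrix.kroneckerMap_apply, Matrix.one_apply, hy], rank_kronecker_one]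
      have hge : i ≤ (A' - 1).rank := le_rank_sub_one hq hrq hrF hA hA1
      have : 3 * i ≤ b * (A' - 1).rank := Nat.mul_le_mul hb hge
      omega
    · rcases eq_or_lt_of_le hi with h2i | h2i
      · have hnsA : ∀ s : F, A' ≠ s • 1 := by
          intro s hs
          have : NeZero a := ⟨by omega⟩
          refine hA1 ?_
          rw [hs, eq_one_of_pow_eq_one hq hns (s := s) (by simpa [hs, smul_pow] using congrFun (congrFun hA 0) 0),
            one_smul]
        have h3 := le_rank_kronecker_sub hnsA (B := B') (hB.smul (Units.mk0 d⁻¹ (inv_ne_zero hd0))) 1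
        rw [one_smul] at h3
        have := hiev (by rw [← h2i]; exact even_two)
        omega
      · obtain ⟨u, hu⟩ := exists_cyclic hq hrq hrF hB' hB1
        have hu' : LinearIndependent F (fun l : Fin (i - 1 + 1) => (B' ^ (l : ℕ)) *ᵥ u) :=
          hu.comp (Fin.cast (by omega)) (Fin.cast_injective _)
        have h3 := mul_le_rank_kronecker_sub A' B' hu'
        obtain ⟨s, hs⟩ := ha
        have : a * 2 ≤ a * (i - 1) := Nat.mul_le_mul_left _ (by omega)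
        rcases eq_or_lt_of_le (show 3 ≤ i by omega) with h3i | h3i
        · omega
        · have : a * 3 ≤ a * (i - 1) := Nat.mul_le_mul_left _ (by omega)
          omega

end Cfsg.Agent.H98.PrimeElem
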