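import Cfsg.Prelude.Def_GeometricClasses
import Cfsg.Agent.H98.PrimeElem.Basic

/-!
Elements of prime order that lie in no conjugate of a tensor product subgroup.
-/

set_option autoImplicit false

namespace Cfsg.Agent.H98.PrimeElem

open Matrix Module
open scoped Kronecker

variable {F : Type*} [Field F] {n a b : ℕ}

theorem exists_of_conj_mem {e : Fin n ≃ Fin a × Fin b} {P x g : GL (Fin n) F}
    (h : g⁻¹ * x * g ∈ Cfsg.Geo.tensorProductSubgroup a b e P) :
    ∃ (A : GL (Fin a) F) (B : GL (Fin b) F) (U : GL (Fin n) F), (x : Matrix (Fin n) (Fin n) F) =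
      U.val * Matrix.reindexAlgEquiv F F e.symm (A.val ⊗ₖ B.val) * (U⁻¹).val := by
  obtain ⟨_, ⟨K, ⟨A, B, hK⟩, rfl⟩, hy⟩ := h
  refine ⟨A, B, g * P, ?_⟩
  simp only [MulEquiv.coe_toMonoidHom, MulAut.conj_apply] at hy
  have hx : x = (g * P) * Cfsg.Geo.glReindex e.symm K * (g * P)⁻¹ := by
    rw [show (g * P) * Cfsg.Geo.glReindex e.symm K * (g * P)⁻¹ =
      g * (P * Cfsg.Geo.glReindex e.symm K * P⁻¹) * g⁻¹ by group, hy]
    group
  conv_lhs => rw [hx]
  rw [Units.val_mul, Units.val_mul (g * P)]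
  congr 2
  rw [← hK]
  rfl

theorem rank_sub_of_conj {x : Matrix (Fin n) (Fin n) F} {U : GL (Fin n) F} {e : Fin n ≃ Fin a × Fin b}
    {K : Matrix (Fin a × Fin b) (Fin a × Fin b) F}
    (hx : x = U.val * Matrix.reindexAlgEquiv F F e.symm K * (U⁻¹).val) (l : F) :
    (x - l • 1).rank = (K - l • 1).rank := by
  have h1 : x - l • 1 = U.val * Matrix.reindexAlgEquiv F F e.symm (K - l • 1) * (U⁻¹).val := by
    rw [map_sub, map_smul, map_one, Matrix.mul_sub, Matrix.sub_mul, ← hx, Matrix.mul_smul, Matrix.mul_one,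
      Matrix.smul_mul, Units.mul_inv]
  rw [h1, Matrix.rank_mul_eq_left_of_isUnit_det _ _ ((Matrix.isUnit_iff_isUnit_det _).1 (Units.isUnit _)),
    Matrix.rank_mul_eq_right_of_isUnit_det _ _ ((Matrix.isUnit_iff_isUnit_det _).1 (Units.isUnit _)),
    Matrix.reindexAlgEquiv_apply, Matrix.rank_reindex]

/-- If some shift of `x` has rank below `b`, every shift has rank divisible by `a`. -/
theorem dvd_rank_of_conj_mem {e : Fin n ≃ Fin a × Fin b} {P x g : GL (Fin n) F}
    (h : g⁻¹ * x * g ∈ Cfsg.Geo.tensorProductSubgroup a b e P) {l₀ : F}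
    (hl₀ : ((x : Matrix (Fin n) (Fin n) F) - l₀ • 1).rank < b) (l : F) :
    a ∣ ((x : Matrix (Fin n) (Fin n) F) - l • 1).rank := by
  obtain ⟨A, B, U, hU⟩ := exists_of_conj_mem h
  obtain ⟨c, hc⟩ : ∃ c : F, A.val = c • 1 := by
    by_contra hA
    simp only [not_exists] at hA
    rw [rank_sub_of_conj hU] at hl₀
    exact absurd (le_rank_kronecker_sub hA (Units.isUnit B) l₀) (not_le.2 hl₀)
  rw [rank_sub_of_conj hU]
  have h2 : A.val ⊗ₖ B.val - l • 1 = (1 : Matrix (Fin a) (Fin a) F) ⊗ₖ (c • B.val - l • 1) := by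
    rw [hc, Matrix.smul_kronecker, ← Matrix.kronecker_smul, ← Matrix.one_kronecker_one (α := F),
      ← Matrix.kronecker_smul]
    ext ⟨i, j⟩ ⟨i', j'⟩
    simp [Matrix.kroneckerMap_apply, mul_sub]
  rw [h2, rank_one_kronecker]
  exact Dvd.intro _ rfl

/-- A matrix of order r moving a subspace of dimension i, with i the order of q modulo r and i ≥ 2, is in no
conjugate of the tensor product subgroup. -/
theorem not_conj_mem_of_small [Fintype F] {r q : ℕ} [hr : Fact r.Prime] (hq : Fintype.card F = q) (hrq : ¬ r ∣ q)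
    (hrF : (r : F) ≠ 0) (hi : 2 ≤ orderOf (q : ZMod r)) (ha : 2 ≤ a) (hab : a < b)
    {e : Fin n ≃ Fin a × Fin b} {P x g : GL (Fin n) F} (hxr : (x : Matrix (Fin n) (Fin n) F) ^ r = 1)
    (hx1 : (x : Matrix (Fin n) (Fin n) F) ≠ 1)
    (hrk : ((x : Matrix (Fin n) (Fin n) F) - 1).rank ≤ orderOf (q : ZMod r)) :
    g⁻¹ * x * g ∉ Cfsg.Geo.tensorProductSubgroup a b e P := by
  intro h
  obtain ⟨A, B, U, hU⟩ := exists_of_conj_mem h
  have hrank := rank_sub_of_conj hU 1
  rw [one_smul, one_smul] at hrank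
  set φ : Matrix (Fin a × Fin b) (Fin a × Fin b) F →* Matrix (Fin n) (Fin n) F :=
    { toFun := fun K => U.val * Matrix.reindexAlgEquiv F F e.symm K * (U⁻¹).val
      map_one' := by rw [map_one, Matrix.mul_one, Units.mul_inv]
      map_mul' := fun K L => by
        rw [map_mul]
        simp only [Matrix.mul_assoc]
        rw [← Matrix.mul_assoc (U⁻¹).val U.val, Units.inv_mul, Matrix.one_mul] } with hφ
  have hφinj : Function.Injective φ := fun K L hKL => (Matrix.reindexAlgEquiv F F e.symm).injective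
    ((Units.isUnit U).mul_left_cancel ((Units.isUnit U⁻¹).mul_right_cancel hKL))
  have hKr : (A.val ⊗ₖ B.val) ^ r = 1 := hφinj (by rw [map_pow, map_one]; rw [← hxr, hU]; rfl)
  have hpow : ∀ k : ℕ, (A.val ⊗ₖ B.val) ^ k = (A.val ^ k) ⊗ₖ (B.val ^ k) := by
    intro k
    induction k with
    | zero => simp
    | succ k ih => rw [pow_succ, pow_succ, pow_succ, ih, Matrix.mul_kronecker_mul]
  rw [hpow] at hKr
  haveI : NeZero a := ⟨by omega⟩
  haveI : NeZero b := ⟨by omega⟩
  set c : F := (B.val ^ r) 0 0 with hc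
  have hAr : ∀ i i', c * (A.val ^ r) i i' = (1 : Matrix (Fin a) (Fin a) F) i i' := by
    intro i i'
    have := congrFun (congrFun hKr (i, 0)) (i', 0)
    rw [Matrix.kroneckerMap_apply] at this
    rw [hc, mul_comm, this]
    simp [Matrix.one_apply]
  have hc0 : c ≠ 0 := fun h0 => one_ne_zero (α := F) (by simpa [h0] using (hAr 0 0).symm)
  obtain ⟨d, hd⟩ : ∃ d : F, d ^ r = c := by
    have hcop : (Nat.card Fˣ).Coprime r := by
      rw [Nat.card_units, Nat.card_eq_fintype_card, hq, Nat.coprime_comm, hr.out.coprime_iff_not_dvd]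
      intro hd
      have h1 : (q : ZMod r) = 1 := by
        have h0 := (ZMod.natCast_eq_zero_iff _ _).2 hd
        rw [Nat.cast_sub (by rw [← hq]; exact Fintype.card_pos), sub_eq_zero] at h0
        simpa using h0
      rw [h1, orderOf_one] at hi
      omega
    exact ⟨((powCoprime hcop).symm (Units.mk0 c hc0) : Fˣ),
      congrArg Units.val ((powCoprime hcop).apply_symm_apply (Units.mk0 c hc0))⟩
  have hd0 : d ≠ 0 := fun h0 => hc0 (by rw [← hd, h0, zero_pow hr.out.ne_zero])
  set A' := d • A.val with hA'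
  set B' := d⁻¹ • B.val with hB'
  have hAB : A.val ⊗ₖ B.val = A' ⊗ₖ B' := by
    rw [hA', hB', Matrix.smul_kronecker, Matrix.kronecker_smul, smul_smul, mul_inv_cancel₀ hd0, one_smul]
  have hA'r : A' ^ r = 1 := by
    ext i i'
    rw [hA', smul_pow, Matrix.smul_apply, smul_eq_mul, hd, hAr]
  have hB'r : B' ^ r = 1 := by
    have h1 : (A.val ⊗ₖ B.val) ^ r = (A' ^ r) ⊗ₖ (B' ^ r) := by
      rw [hpow, hA', hB', smul_pow, smul_pow, Matrix.smul_kronecker, Matrix.kronecker_smul, smul_smul,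
        ← mul_pow, mul_inv_cancel₀ hd0, one_pow, one_smul]
    rw [hA'r, hpow, hKr] at h1
    ext j j'
    simpa [Matrix.one_apply] using (congrFun (congrFun h1 (0, j)) (0, j')).symm
  rw [hAB] at hrank
  rcases eq_or_ne A' 1 with hA1 | hA1
  · rw [hA1, show (1 : Matrix (Fin a) (Fin a) F) ⊗ₖ B' - 1 = (1 : Matrix (Fin a) (Fin a) F) ⊗ₖ (B' - 1) by
      ext ⟨i, j⟩ ⟨i', j'⟩
      by_cases hi : i = i' <;> simp [Matrix.kroneckerMap_apply, Matrix.one_apply, hi],
      rank_one_kronecker] at hrank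
    have hB1 : B' ≠ 1 := fun h0 => by
      refine hx1 ?_
      rw [hU, hAB, hA1, h0, Matrix.one_kronecker_one, map_one, Matrix.mul_one, Units.mul_inv]
    have := le_rank_sub_one hq hrq hrF hB'r hB1
    have : 2 * (B' - 1).rank ≤ a * (B' - 1).rank := Nat.mul_le_mul_right _ ha
    omega
  · have h1 := le_rank_sub_one hq hrq hrF hA'r hA1
    have h2 : (A' - 1).rank ≤ a := (Matrix.rank_le_card_width _).trans (le_of_eq (Fintype.card_fin a))
    have hns : ∀ s : F, A' ≠ s • 1 := by
      intro s hs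
      have hs1 : s ^ r = 1 := by
        simpa [hs, smul_pow] using congrFun (congrFun hA'r 0) 0
      have hqs : s = 1 := by
        have hs0 : s ≠ 0 := fun h0 => by simp [h0, hr.out.ne_zero] at hs1
        have ho : orderOf (Units.mk0 s hs0) ∣ r := orderOf_dvd_of_pow_eq_one (Units.ext (by simpa using hs1))
        rcases (Nat.dvd_prime hr.out).1 ho with h | h
        · simpa using congrArg Units.val (orderOf_eq_one_iff.1 h)
        · have hdc := orderOf_dvd_natCard (Units.mk0 s hs0)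
          rw [h, Nat.card_units, Nat.card_eq_fintype_card, hq] at hdc
          have h1 : (q : ZMod r) = 1 := by
            have h0 := (ZMod.natCast_eq_zero_iff _ _).2 hdc
            rw [Nat.cast_sub (by rw [← hq]; exact Fintype.card_pos), sub_eq_zero] at h0
            simpa using h0
          rw [h1, orderOf_one] at hi
          omega
      exact hA1 (by rw [hs, hqs, one_smul])
    have h3 := le_rank_kronecker_sub hns (B := B') ((Units.isUnit B).smul (Units.mk0 d⁻¹ (inv_ne_zero hd0))) 1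
    rw [one_smul] at h3
    omega

end Cfsg.Agent.H98.PrimeElem
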